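import Groth.Agent.PrinPartLib.Crit

/-!
# Differential operators between sheaves of modules: the criterion and composition
-/

set_option autoImplicit false

universe u

open CategoryTheory CategoryTheory.Limits AlgebraicGeometry TopologicalSpace Opposite

namespace PrinPartLib

variable {X S : Scheme.{u}} (f : X ⟶ S) (n : ℕ) {F G H : X.Modules}

/-- Functions from the base have equal images under both projections. -/
theorem d2_base {V : S.Opens} {U : X.Opens} (hU : U ≤ f ⁻¹ᵁ V) (s : Γ(S, V)) :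
    d2 f n U (X.presheaf.map (homOfLE hU).op (f.app V s)) =
      (PrinPart.pr1 f n).app U (X.presheaf.map (homOfLE hU).op (f.app V s)) := by
  have e : f.appLE V U hU ≫ d2 f n U = f.appLE V U hU ≫ (PrinPart.pr1 f n).app U := by
    rw [Scheme.Hom.app_eq_appLE, Scheme.Hom.appLE_comp_appLE, Scheme.Hom.appLE_comp_appLE]
    simp only [PrinPart.pr1_comp]
  exact congr($e s)

/-- A product of `n + 1` differences `pr2♯ a - pr1♯ a` vanishes over every open. -/
theorem prod_delta_eq_zero' (U : X.Opens) (a : Fin (n + 1) → Γ(X, U)) :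
    ∏ i, (d2 f n U (a i) - (PrinPart.pr1 f n).app U (a i)) = 0 := by
  let N := PrinPart.nbhd f n
  refine TopCat.Sheaf.eq_of_locally_eq' N.sheaf
    (fun U' : {U' : X.Opens // U' ≤ U ∧ SmallAffine f U'} => PrinPart.pr1 f n ⁻¹ᵁ U'.1)
    (PrinPart.pr1 f n ⁻¹ᵁ U) (fun U' => homOfLE ((PrinPart.pr1 f n).preimage_mono U'.2.1)) ?_ _ _ ?_
  · intro y hy
    obtain ⟨U', hU', hyU', hle⟩ := exists_smallAffine f (show PrinPart.pr1 f n y ∈ U from hy)
    exact Opens.mem_iSup.2 ⟨⟨U', hle, hU'⟩, hyU'⟩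
  · rintro ⟨U', hle, hU'⟩
    show N.presheaf.map _ _ = N.presheaf.map _ 0
    rw [map_zero, map_prod]
    refine Eq.trans (Finset.prod_congr rfl fun i _ => ?_)
      (prod_delta_eq_zero f n hU' fun i => X.presheaf.map (homOfLE hle).op (a i))
    rw [map_sub, ← d2_res f n hle]
    refine congrArg (_ - ·) ?_
    exact (congr($((PrinPart.pr1 f n).naturality (homOfLE hle).op) (a i))).symm

/-- The alternating sum in the neighbourhood. -/
theorem sum_alt_eq_zero (U : X.Opens) (a : Fin (n + 1) → Γ(X, U)) :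
    ∑ T : Finset (Fin (n + 1)), ((-1 : ℤ) ^ T.card) •
      ((PrinPart.pr1 f n).app U (∏ i ∈ T, a i) * d2 f n U (∏ i ∈ Tᶜ, a i)) = 0 := by
  have h := prod_delta_eq_zero' f n U a
  simp only [sub_eq_neg_add] at h
  rw [Finset.prod_add, Finset.powerset_univ] at h
  refine Eq.trans (Finset.sum_congr rfl fun T _ => ?_) h
  rw [Finset.prod_neg, map_prod, map_prod, ← Finset.compl_eq_univ_sdiff, zsmul_eq_mul, mul_assoc]
  simp only [Int.cast_pow, Int.cast_neg, Int.cast_one]

variable {n}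

/-- An operator of order at most `n` commutes with functions from the base. -/
theorem slinear_of_isDiffOpLE {D : F.presheaf ⟶ G.presheaf} (hD : PrinPart.IsDiffOpLE f F G n D) :
    SLinear f D := by
  obtain ⟨v, hv⟩ := hD
  intro V s U hU t
  rw [hv, hv]
  show v.app U (dPs f n F U _) = _
  rw [dP_smul, show (PrinPart.pr2 f n).appLE U (PrinPart.pr1 f n ⁻¹ᵁ U) (PrinPart.preimage_pr1 f n U).le
    (X.presheaf.map (homOfLE hU).op (f.app V s)) = _ from d2_base f n hU s]
  exact v.app_smul _ _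

/-- An operator of order at most `n` has vanishing alternating sums. -/
theorem altVanish_of_isDiffOpLE {D : F.presheaf ⟶ G.presheaf} (hD : PrinPart.IsDiffOpLE f F G n D) :
    AltVanish n D := by
  obtain ⟨v, hv⟩ := hD
  intro U a t
  let Φ : Γ(PrinPart.nbhd f n, PrinPart.pr1 f n ⁻¹ᵁ U) →+ Γ(G, U) :=
    AddMonoidHom.mk' (fun e => v.app U (e • dPs f n F U t)) fun e e' => by
      rw [add_smul]; exact map_add (v.app U).hom _ _
  have hΦ : ∀ b c : Γ(X, U), Φ ((PrinPart.pr1 f n).app U b * d2 f n U c) =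
      b • D.app (op U) (c • t) := by
    intro b c
    have e : ((PrinPart.pr1 f n).app U b * d2 f n U c) • dPs f n F U t =
        (PrinPart.pr1 f n).app U b • dPs f n F U (c • t) := by
      rw [mul_smul, dP_smul]
    rw [hv]
    exact (congrArg (v.app U) e).trans (v.app_smul b _)
  refine Eq.trans (Finset.sum_congr rfl fun T _ => ?_)
    (((map_sum Φ _ _).symm.trans (congrArg Φ (sum_alt_eq_zero f n U a))).trans (map_zero Φ))
  rw [map_zsmul, hΦ]

/-- The criterion. -/
theorem isDiffOpLE_iff {D : F.presheaf ⟶ G.presheaf} :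
    PrinPart.IsDiffOpLE f F G n D ↔ SLinear f D ∧ AltVanish n D :=
  ⟨fun h => ⟨slinear_of_isDiffOpLE f h, altVanish_of_isDiffOpLE f h⟩,
    fun h => exists_factor f n h.1 h.2⟩

/-- Composition adds orders. -/
theorem isDiffOpLE_comp {n' : ℕ} {D : F.presheaf ⟶ G.presheaf} {D' : G.presheaf ⟶ H.presheaf}
    (hD : PrinPart.IsDiffOpLE f F G n D) (hD' : PrinPart.IsDiffOpLE f G H n' D') :
    PrinPart.IsDiffOpLE f F H (n + n') (D ≫ D') := by
  refine (isDiffOpLE_iff f).2 ⟨fun V s U hU t => ?_, fun U a t => ?_⟩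
  · show D'.app (op U) (D.app (op U) _) = _
    rw [slinear_of_isDiffOpLE f hD V s U hU t]
    exact slinear_of_isDiffOpLE f hD' V s U hU _
  · let φ := (f.appLE ⊤ U le_top).hom
    letI : Algebra Γ(S, ⊤) Γ(X, U) := φ.toAlgebra
    letI : Module Γ(S, ⊤) Γ(F, U) := Module.compHom _ φ
    letI : Module Γ(S, ⊤) Γ(G, U) := Module.compHom _ φ
    letI : Module Γ(S, ⊤) Γ(H, U) := Module.compHom _ φ
    haveI : IsScalarTower Γ(S, ⊤) Γ(X, U) Γ(F, U) := IsScalarTower.of_algebraMap_smul fun _ _ => rfl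
    haveI : IsScalarTower Γ(S, ⊤) Γ(X, U) Γ(G, U) := IsScalarTower.of_algebraMap_smul fun _ _ => rfl
    haveI : IsScalarTower Γ(S, ⊤) Γ(X, U) Γ(H, U) := IsScalarTower.of_algebraMap_smul fun _ _ => rfl
    let L : Γ(F, U) →ₗ[Γ(S, ⊤)] Γ(G, U) :=
      { toFun := fun m => (D.app (op U)).hom m
        map_add' := fun m m' => map_add (D.app (op U)).hom m m'
        map_smul' := fun r m => slinear_of_isDiffOpLE f hD ⊤ r U le_top m }
    let L' : Γ(G, U) →ₗ[Γ(S, ⊤)] Γ(H, U) :=
      { toFun := fun m => (D'.app (op U)).hom m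
        map_add' := fun m m' => map_add (D'.app (op U)).hom m m'
        map_smul' := fun r m => slinear_of_isDiffOpLE f hD' ⊤ r U le_top m }
    have h1 : Diff16.IsDiffOpLE Γ(S, ⊤) Γ(X, U) Γ(F, U) Γ(G, U) n L :=
      DiffOp16Lib.isDiffOpLE_of_altSum_eq_zero n L fun c m => by
        rw [DiffOp16Lib.altSum_univ]
        exact altVanish_of_isDiffOpLE f hD U c m
    have h2 : Diff16.IsDiffOpLE Γ(S, ⊤) Γ(X, U) Γ(G, U) Γ(H, U) n' L' :=
      DiffOp16Lib.isDiffOpLE_of_altSum_eq_zero n' L' fun c m => by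
        rw [DiffOp16Lib.altSum_univ]
        exact altVanish_of_isDiffOpLE f hD' U c m
    have h3 := DiffOp16Lib.altSum_eq_zero_of_isDiffOpLE a (n + n') Finset.univ _
      (DiffOp16Lib.isDiffOpLE_comp n n' L L' h1 h2) (by simp) t
    rw [DiffOp16Lib.altSum_univ] at h3
    exact h3

/-- `d^n` has order at most `n`. -/
theorem isDiffOpLE_dPHom (F : X.Modules) :
    PrinPart.IsDiffOpLE f F (PrinPart.PMod f n F) n (PrinPart.dPHom f n F) :=
  ⟨𝟙 _, fun _ _ => rfl⟩

end PrinPartLib
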