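import Groth.Agent.PrinPartLib.Swap

/-!
# Base change of the neighbourhoods of the diagonal
-/

set_option autoImplicit false

universe u

open CategoryTheory CategoryTheory.Limits AlgebraicGeometry TopologicalSpace Opposite

namespace PrinPartLib

variable {X S X' S' : Scheme.{u}} (f : X ⟶ S) (f' : X' ⟶ S') (u : X' ⟶ X) (g : S' ⟶ S) (n : ℕ)

/-- A closed immersion factored through a monomorphism is its pullback. -/
theorem isPullback_of_mono {A B C : Scheme.{u}} (a : A ⟶ B) (j : B ⟶ C) [Mono j] (b : A ⟶ C)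
    (h : a ≫ j = b) : IsPullback (𝟙 A) a b j := by
  refine IsPullback.of_isLimit' ⟨by rw [Category.id_comp, h]⟩ (PullbackCone.IsLimit.mk _ (fun s => s.fst)
    (fun s => Category.comp_id _) (fun s => ?_) fun s m h1 _ => by simpa using h1)
  rw [← cancel_mono j, Category.assoc, h]
  exact s.condition

/-- The neighbourhood of the diagonal of a base change is the base change of the neighbourhood. -/
theorem exists_nbhd_isPullback (hsq : IsPullback u f' f g) :
    ∃ v : PrinPart.nbhd f' n ⟶ PrinPart.nbhd f n,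
      IsPullback v (PrinPart.pr1 f' n) (PrinPart.pr1 f n) u ∧
        v ≫ PrinPart.pr2 f n = PrinPart.pr2 f' n ≫ u := by
  let m : pullback f' f' ⟶ pullback f f := pullback.map f' f' f f u u g hsq.w.symm hsq.w.symm
  have hm1 : m ≫ pullback.fst f f = pullback.fst f' f' ≫ u := pullback.lift_fst _ _ _
  have hm2 : m ≫ pullback.snd f f = pullback.snd f' f' ≫ u := pullback.lift_snd _ _ _
  have hm : IsPullback m (pullback.fst f' f') (pullback.fst f f) u := by
    have h1 : IsPullback (m ≫ pullback.snd f f) (pullback.fst f' f') f (u ≫ f) := by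
      rw [hm2, hsq.w]
      exact (IsPullback.of_hasPullback f' f').flip.paste_horiz hsq
    exact IsPullback.of_right h1 hm1 (IsPullback.of_hasPullback f f).flip
  let Δ := pullback.diagonal f
  let Δ' := pullback.diagonal f'
  have hΔm : Δ' ≫ m = u ≫ Δ := by
    apply pullback.hom_ext <;> simp only [Δ, Δ', Category.assoc, hm1, hm2, pullback.diagonal_fst,
      pullback.diagonal_snd, pullback.diagonal_fst_assoc, pullback.diagonal_snd_assoc, Category.comp_id]
  have hd : IsPullback u Δ' Δ m := by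
    refine IsPullback.of_bot ?_ hΔm.symm hm
    simp only [Δ, Δ', pullback.diagonal_fst]
    exact IsPullback.of_vert_isIso ⟨by simp⟩
  let C := Δ.coborderRange
  let C' := Δ'.coborderRange
  let C₂ := m ⁻¹ᵁ C
  have hrange : Set.range Δ' = m ⁻¹' Set.range Δ := by
    rw [← Scheme.Pullback.range_fst]
    have : Δ' = hd.flip.isoPullback.hom ≫ pullback.fst m Δ := hd.flip.isoPullback_hom_fst.symm
    conv_lhs => rw [this]
    rw [Scheme.Hom.comp_base, TopCat.coe_comp, Set.range_comp,
      (show Function.Surjective hd.flip.isoPullback.hom.base from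
        (Scheme.homeoOfIso hd.flip.isoPullback).surjective).range_eq, Set.image_univ]
  have hC₂ : C₂ ≤ C' := by
    intro z hz
    change z ∈ coborder (Set.range Δ')
    rintro ⟨h1, h2⟩
    have hz' : m z ∈ coborder (Set.range Δ) := hz
    refine hz' ⟨?_, fun h => h2 (hrange ▸ h)⟩
    rw [hrange] at h1
    exact m.continuous.closure_preimage_subset _ h1
  let d := PrinPart.diagCl f
  have hsub : Set.range Δ' ⊆ C₂ := by
    rintro _ ⟨x, rfl⟩
    change m (Δ' x) ∈ C
    rw [← Scheme.Hom.comp_apply, hΔm]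
    exact subset_coborder ⟨u x, rfl⟩
  let d₂ : X' ⟶ C₂.toScheme := IsOpenImmersion.lift C₂.ι Δ' (by simpa using hsub)
  have hd₂ : d₂ ≫ C₂.ι = Δ' := IsOpenImmersion.lift_fac _ _ _
  have hdι : d ≫ C.ι = Δ := Δ.liftCoborder_ι
  have hrestr : IsPullback (m ∣_ C) C₂.ι C.ι m := (isPullback_morphismRestrict m C)
  have hd2sq : IsPullback u d₂ d (m ∣_ C) := by
    refine IsPullback.of_bot (by rw [hd₂, hdι]; exact hd) ?_ hrestr
    rw [← cancel_mono C.ι, Category.assoc, Category.assoc, hdι, morphismRestrict_ι, ← Category.assoc, hd₂, hΔm]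
  haveI : IsClosedImmersion d₂ := MorphismProperty.of_isPullback hd2sq inferInstance
  obtain ⟨w₁, hw₁⟩ := exists_nbhdMap n d (m ∣_ C) u d₂ hd2sq
  let j : C₂.toScheme ⟶ C'.toScheme := (pullback f' f').homOfLE hC₂
  let d' := PrinPart.diagCl f'
  have hj : d₂ ≫ j = d' := by
    rw [← cancel_mono C'.ι, Category.assoc, Scheme.homOfLE_ι, hd₂]
    exact Δ'.liftCoborder_ι.symm
  obtain ⟨w₂, hw₂⟩ := exists_nbhdMap n d' j (𝟙 X') d₂ (isPullback_of_mono d₂ j d' hj)
  haveI : IsOpenImmersion w₂ := MorphismProperty.of_isPullback hw₂.flip inferInstance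
  haveI : Surjective w₂ := by
    constructor
    intro z
    obtain ⟨x, rfl⟩ := PrinPart.toInfNbhd_surjective d' n z
    refine ⟨PrinPart.toInfNbhd d₂ n x, ?_⟩
    have : PrinPart.toInfNbhd d₂ n ≫ w₂ = PrinPart.toInfNbhd d' n := by
      haveI : Mono (PrinPart.infNbhdι d' n) := by rw [PrinPart.infNbhdι]; infer_instance
      rw [← cancel_mono (PrinPart.infNbhdι d' n), Category.assoc, hw₂.w, PrinPart.toInfNbhd_ι_assoc,
        PrinPart.toInfNbhd_ι, hj]
    rw [← Scheme.Hom.comp_apply, this]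
  haveI : Epi w₂.base := (TopCat.epi_iff_surjective _).2 w₂.surjective
  haveI : IsIso w₂ := IsOpenImmersion.isIso w₂
  refine ⟨inv w₂ ≫ w₁, ?_, ?_⟩
  · have hA : IsPullback w₁ (PrinPart.infNbhdι d₂ n ≫ C₂.ι) (PrinPart.nbhdι f n) m := hw₁.paste_vert hrestr
    have hB := hA.paste_vert hm
    refine hB.of_iso (asIso w₂) (Iso.refl _) (Iso.refl _) (Iso.refl _) ?_ ?_ ?_ ?_
    · simp
    · show ((PrinPart.infNbhdι d₂ n ≫ C₂.ι) ≫ pullback.fst f' f') ≫ 𝟙 _ =
        w₂ ≫ (PrinPart.infNbhdι d' n ≫ C'.ι) ≫ pullback.fst f' f'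
      rw [Category.comp_id]
      simp only [← Category.assoc, hw₂.w]
      simp only [Category.assoc, j, Scheme.homOfLE_ι_assoc]
    · simp [PrinPart.pr1]
    · simp
  · show (inv w₂ ≫ w₁) ≫ (PrinPart.infNbhdι d n ≫ C.ι) ≫ pullback.snd f f =
      ((PrinPart.infNbhdι d' n ≫ C'.ι) ≫ pullback.snd f' f') ≫ u
    rw [Category.assoc, IsIso.inv_comp_eq]
    simp only [← Category.assoc, hw₂.w, hw₁.w]
    simp only [Category.assoc, j, Scheme.homOfLE_ι_assoc, morphismRestrict_ι_assoc]
    congr 2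

end PrinPartLib
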