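import Groth.Agent.S12131
import Groth.Agent.FComplLib.Basic
import Groth.Agent.CohGenLib.Pro
import Groth.Agent.CohCmpLib.PuSec
import Groth.Agent.CohCmpLib.UnitFibre

/-!
# Ideal modules and flat base change
-/

set_option autoImplicit false

universe u

open CategoryTheory CategoryTheory.Limits AlgebraicGeometry TopologicalSpace Opposite

namespace PrinPartLib

variable {X X' : Scheme.{u}}

/-- Ideal modules commute with flat base change. -/
theorem exists_idealModBC (J : X.IdealSheafData) (v : X' ⟶ X) [Flat v] (J' : X'.IdealSheafData)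
    (hJ : J.comap v = J') :
    ∃ χ : (Scheme.Modules.pullback v).obj (ClSub.idealMod J) ⟶ ClSub.idealMod J', IsIso χ ∧
      ∀ (U : X.Opens) (a : Γ(ClSub.idealMod J, U)),
        OmegaSh.idealSect J' (v ⁻¹ᵁ U) (χ.app (v ⁻¹ᵁ U) (KFlatLib.puSec v a)) =
          v.app U (OmegaSh.idealSect J U a) := by
  subst hJ
  let J' := J.comap v
  let w : J'.subscheme ⟶ J.subscheme := (J.comapIso v).hom ≫ pullback.snd _ _
  have H : IsPullback w J'.subschemeι J.subschemeι v := by
    refine (isPullback_of_isClosedImmersion _ _ w v ?_ ?_).flip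
    · simp only [w, Category.assoc, ← pullback.condition]
      rw [Scheme.IdealSheafData.comapIso_hom_fst_assoc]
    · rw [Scheme.IdealSheafData.ker_subschemeι, Scheme.IdealSheafData.ker_subschemeι]
  haveI : PreservesFiniteLimits (Scheme.Modules.pullback v) := CohGenLib.preservesFiniteLimits_pullback_flat v
  haveI : (Scheme.Modules.pullback v).Additive :=
    (Scheme.Modules.pullbackPushforwardAdjunction v).left_adjoint_additive
  let O := Coh.structureModule J.subscheme
  haveI : Coh.IsQCoh O := QCohLib.isQCoh_unit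
  let b₀ := CohBC.bc0 J.subschemeι v J'.subschemeι w H.w O
  haveI hb₀ : IsIso b₀ := Groth.Agent.S12131.result J.subschemeι v w J'.subschemeι H O
  let b : (Scheme.Modules.pullback v).obj ((Scheme.Modules.pushforward J.subschemeι).obj O) ≅
      (Scheme.Modules.pushforward J'.subschemeι).obj (Coh.structureModule J'.subscheme) :=
    @asIso _ _ _ _ b₀ hb₀ ≪≫ (Scheme.Modules.pushforward J'.subschemeι).mapIso (KFlatLib.pullUnitIso w)
  let a := KFlatLib.pullUnitIso v
  have hsq : (Scheme.Modules.pullback v).map (ClSub.toSubscheme J) ≫ b.hom =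
      a.hom ≫ ClSub.toSubscheme J' := CohCmpLib.bc0_unit H.w
  let κ := PreservesKernel.iso (Scheme.Modules.pullback v) (ClSub.toSubscheme J)
  let e := kernel.mapIso ((Scheme.Modules.pullback v).map (ClSub.toSubscheme J)) (ClSub.toSubscheme J') a b hsq
  refine ⟨(κ ≪≫ e).hom, inferInstance, fun U x => ?_⟩
  have h : (κ ≪≫ e).hom ≫ ClSub.idealModι J' =
      (Scheme.Modules.pullback v).map (ClSub.idealModι J) ≫ a.hom := by
    simp only [κ, e, Iso.trans_hom, kernel.mapIso, ClSub.idealModι, Category.assoc, kernel.lift_ι,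
      PreservesKernel.iso_hom, kernelComparison_comp_ι_assoc]
    rfl
  refine (congrArg (OmegaSh.fnSect X' (v ⁻¹ᵁ U))
    (congr($(congrArg (fun k => Scheme.Modules.Hom.app k (v ⁻¹ᵁ U)) h) (KFlatLib.puSec v x)))).trans ?_
  refine (congrArg (fun z => OmegaSh.fnSect X' (v ⁻¹ᵁ U) (a.hom.app (v ⁻¹ᵁ U) z))
    (KFlatLib.puSec_natural v (ClSub.idealModι J) x)).trans ?_
  exact congrArg (OmegaSh.fnSect X' (v ⁻¹ᵁ U)) (CohCmpLib.pullUnitIso_puSec v _)

end PrinPartLib
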