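import Groth.Agent.PrinPartLib.Gen
import Groth.Agent.ModDescLib.Core
import Groth.Agent.QCohLib.Coherent
import Groth.Agent.QCohLib.Push
import Groth.Agent.KFlatLib.QCohPull
import Mathlib.AlgebraicGeometry.Morphisms.Finite

/-!
# The projections from the neighbourhood of the diagonal, and `P^n(F)` for quasi-coherent `F`
-/

set_option autoImplicit false

universe u

open CategoryTheory CategoryTheory.Limits AlgebraicGeometry TopologicalSpace Opposite

namespace PrinPartLib

variable {X S : Scheme.{u}} (f : X ⟶ S) (n : ℕ)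

theorem isAffineHom_pr1 : IsAffineHom (PrinPart.pr1 f n) :=
  isAffineHom_of_forall_exists_isAffineOpen _ fun x => by
    obtain ⟨U, hU, hx, -⟩ := exists_smallAffine f (U := ⊤) (x := x) trivial
    exact ⟨U, hx, hU.1, isAffineOpen_preimage f n hU⟩

theorem isAffineHom_pr2 : IsAffineHom (PrinPart.pr2 f n) :=
  isAffineHom_of_forall_exists_isAffineOpen _ fun x => by
    obtain ⟨U, hU, hx, -⟩ := exists_smallAffine f (U := ⊤) (x := x) trivial
    exact ⟨U, hx, hU.1, by rw [← PrinPart.preimage_pr1]; exact isAffineOpen_preimage f n hU⟩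

theorem isQCoh_PMod (F : X.Modules) [Coh.IsQCoh F] : Coh.IsQCoh (PrinPart.PMod f n F) := by
  haveI := isAffineHom_pr1 f n
  haveI : Coh.IsQCoh ((Scheme.Modules.pullback (PrinPart.pr2 f n)).obj F) :=
    KFlatLib.isQCoh_pullback _ F
  exact QCohLib.isQCoh_pushforward (PrinPart.pr1 f n) _

/-- The first projection is finite for `f` locally of finite type. -/
theorem isFinite_pr1 [LocallyOfFiniteType f] : IsFinite (PrinPart.pr1 f n) := by
  haveI := isAffineHom_pr1 f n
  let t := PrinPart.toNbhd f n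
  haveI : Surjective t := ⟨PrinPart.toInfNbhd_surjective (PrinPart.diagCl f) n⟩
  have hth : t ≫ PrinPart.pr1 f n = 𝟙 X := PrinPart.toNbhd_pr1 f n
  haveI : UniversallyClosed (t ≫ PrinPart.pr1 f n) := by rw [hth]; infer_instance
  haveI : UniversallyClosed (PrinPart.pr1 f n) := UniversallyClosed.of_comp_surjective t _
  haveI : IsClosedImmersion (PrinPart.infNbhdι (PrinPart.diagCl f) n) := by
    show IsClosedImmersion (Scheme.IdealSheafData.subschemeι _)
    infer_instance
  haveI : LocallyOfFiniteType (PrinPart.pr1 f n) := by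
    show LocallyOfFiniteType
      ((PrinPart.infNbhdι (PrinPart.diagCl f) n ≫ (pullback.diagonal f).coborderRange.ι) ≫
        pullback.fst f f)
    infer_instance
  haveI : IsIntegralHom (PrinPart.pr1 f n) :=
    (IsIntegralHom.iff_universallyClosed_and_isAffineHom).2 ⟨inferInstance, inferInstance⟩
  exact (IsFinite.iff_isIntegralHom_and_locallyOfFiniteType _).2 ⟨inferInstance, inferInstance⟩

/-- For `f` locally of finite type, `P^n` of a coherent module is coherent. -/
theorem isCoh_PMod [LocallyOfFiniteType f] (F : X.Modules) (hF : Coh.IsCoh F) :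
    Coh.IsCoh (PrinPart.PMod f n F) := by
  haveI := isFinite_pr1 f n
  haveI := isAffineHom_pr2 f n
  haveI : Coh.IsQCoh F := hF.1
  have hq := isQCoh_PMod f n F
  refine ⟨hq, QCohLib.isFT_of_finite fun p => ?_⟩
  obtain ⟨U, hU, hp, -⟩ := exists_smallAffine f (U := ⊤) (x := p) trivial
  have := QCohLib.finite_of_isFT hF.2 hU.1
  let P := (Scheme.Modules.pullback (PrinPart.pr2 f n)).obj F
  have hfin : Module.Finite Γ(PrinPart.nbhd f n, PrinPart.pr1 f n ⁻¹ᵁ U) Γ(P, PrinPart.pr1 f n ⁻¹ᵁ U) := by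
    rw [PrinPart.preimage_pr1]
    obtain ⟨T, hT⟩ := Module.Finite.fg_top (R := Γ(X, U)) (M := Γ(F, U))
    have hspan := ModDescLib.span_puSec (PrinPart.pr2 f n) F hU.1
      (fun x : (T : Set Γ(F, U)) => x.1) (by rwa [Subtype.range_coe_subtype, Set.setOf_mem_eq])
    exact ⟨by rw [← hspan]; exact Submodule.fg_span (Set.finite_range _)⟩
  refine ⟨U, hU.1, hp, ?_⟩
  let _ : Algebra Γ(X, U) Γ(PrinPart.nbhd f n, PrinPart.pr1 f n ⁻¹ᵁ U) :=
    ((PrinPart.pr1 f n).app U).hom.toAlgebra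
  have : Module.Finite Γ(X, U) Γ(PrinPart.nbhd f n, PrinPart.pr1 f n ⁻¹ᵁ U) :=
    IsFinite.finite_app (f := PrinPart.pr1 f n) U hU.1
  let _ : Module Γ(X, U) Γ(P, PrinPart.pr1 f n ⁻¹ᵁ U) :=
    Module.compHom _ ((PrinPart.pr1 f n).app U).hom
  have : IsScalarTower Γ(X, U) Γ(PrinPart.nbhd f n, PrinPart.pr1 f n ⁻¹ᵁ U)
      Γ(P, PrinPart.pr1 f n ⁻¹ᵁ U) :=
    ⟨fun r s x => mul_smul ((PrinPart.pr1 f n).app U r) s x⟩
  exact (Module.Finite.trans Γ(PrinPart.nbhd f n, PrinPart.pr1 f n ⁻¹ᵁ U) _ :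
    Module.Finite Γ(X, U) Γ(P, PrinPart.pr1 f n ⁻¹ᵁ U))

end PrinPartLib
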