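import Groth.Agent.PrinPartLib.Crit
import Groth.Agent.CohCmpLib.UnitFibre

/-!
# Principal parts of affine schemes
-/

set_option autoImplicit false

universe u

open CategoryTheory CategoryTheory.Limits AlgebraicGeometry TopologicalSpace Opposite
open scoped TensorProduct

namespace PrinPartLib

variable {X S : Scheme.{u}} (f : X ⟶ S) (n : ℕ)

/-- Principal parts over `U` are the functions on `pr1⁻¹ U`. -/
theorem exists_fnEquiv (U : X.Opens) :
    ∃ θ : Γ(PrinPart.P f n, U) ≃+ Γ(PrinPart.nbhd f n, PrinPart.pr1 f n ⁻¹ᵁ U),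
      (∀ (r : Γ(X, U)) (z : Γ(PrinPart.P f n, U)), θ (r • z) = (PrinPart.pr1 f n).app U r * θ z) ∧
      ∀ b : Γ(X, U), θ (PrinPart.dn f n U b) = d2 f n U b := by
  let p := PrinPart.pr2 f n
  let h := (KFlatLib.pullUnitIso p).hom
  haveI : IsIso (h.mapPresheaf.app (op (PrinPart.pr1 f n ⁻¹ᵁ U))) := by
    haveI : IsIso h := inferInstance
    haveI : IsIso h.mapPresheaf := inferInstanceAs (IsIso ((Scheme.Modules.toPresheaf _).map h))
    infer_instance
  let θ := (asIso (h.mapPresheaf.app (op (PrinPart.pr1 f n ⁻¹ᵁ U)))).addCommGroupIsoToAddEquiv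
  refine ⟨θ, fun r z => h.app_smul ((PrinPart.pr1 f n).app U r) z, fun b => ?_⟩
  have hle := (PrinPart.preimage_pr1 f n U).le
  show h.app (PrinPart.pr1 f n ⁻¹ᵁ U) (((Scheme.Modules.pullback p).obj (Coh.structureModule X)).presheaf.map
    (homOfLE hle).op (KFlatLib.puSec p (OmegaSh.strSect X U b))) = _
  refine (congr($(h.mapPresheaf.naturality (homOfLE hle).op)
    (KFlatLib.puSec p (OmegaSh.strSect X U b)))).trans ?_
  exact congrArg ((PrinPart.nbhd f n).presheaf.map (homOfLE hle).op)
    (CohCmpLib.pullUnitIso_puSec p (OmegaSh.strSect X U b))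

/-- The kernel of `x ⊗ y ↦ pr1♯ x · pr2♯ y` over a small affine. -/
theorem pairKer {U : X.Opens} {V : S.Opens} (hUa : IsAffineOpen U) (hV : IsAffineOpen V)
    (hUV : U ≤ f ⁻¹ᵁ V) :
    letI : Algebra Γ(S, V) Γ(X, U) := (f.appLE V U hUV).hom.toAlgebra
    ∀ θ' : Γ(X, U) ⊗[Γ(S, V)] Γ(X, U) →+ Γ(PrinPart.nbhd f n, PrinPart.pr1 f n ⁻¹ᵁ U),
      (∀ x y, θ' (x ⊗ₜ y) = (PrinPart.pr1 f n).app U x * d2 f n U y) →
      ∀ z, θ' z = 0 ↔ z ∈ KaehlerDifferential.ideal Γ(S, V) Γ(X, U) ^ (n + 1) := by
  let φ := (f.appLE V U hUV).hom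
  letI : Algebra Γ(S, V) Γ(X, U) := φ.toAlgebra
  intro θ' hθ' z
  have hU : SmallAffine f U := ⟨hUa, V, hV, hUV⟩
  let p₁ := (pullback.fst f f).appLE U (box f U) inf_le_left
  let p₂ := (pullback.snd f f).appLE U (box f U) inf_le_right
  have hw : f.appLE V U hUV ≫ p₁ = f.appLE V U hUV ≫ p₂ := by
    rw [Scheme.Hom.appLE_comp_appLE, Scheme.Hom.appLE_comp_appLE]
    simp only [pullback.condition]
  letI : Algebra Γ(S, V) Γ(pullback f f, box f U) := (p₁.hom.comp φ).toAlgebra
  let a₁ : Γ(X, U) →ₐ[Γ(S, V)] Γ(pullback f f, box f U) := ⟨p₁.hom, fun r => rfl⟩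
  let a₂ : Γ(X, U) →ₐ[Γ(S, V)] Γ(pullback f f, box f U) := ⟨p₂.hom, fun r => (congr($hw r)).symm⟩
  let θ := Algebra.TensorProduct.lift a₁ a₂ fun _ _ => Commute.all _ _
  have hθt : ∀ x y, θ (x ⊗ₜ[Γ(S, V)] y) = p₁ x * p₂ y := fun x y =>
    Algebra.TensorProduct.lift_tmul _ _ _ _ _
  have hθ : Function.Bijective θ := bijective_box_tensor f hUV hUa hV θ.toRingHom hθt
  have hle : pullback.diagonal f ⁻¹ᵁ box f U ≤ U := fun z hz => by
    have := hz.1
    change (pullback.diagonal f ≫ pullback.fst f f) z ∈ U at this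
    rwa [pullback.diagonal_fst] at this
  have hge : U ≤ pullback.diagonal f ⁻¹ᵁ box f U := fun z hz => by
    refine ⟨?_, ?_⟩
    · change (pullback.diagonal f ≫ pullback.fst f f) z ∈ U
      rwa [pullback.diagonal_fst]
    · change (pullback.diagonal f ≫ pullback.snd f f) z ∈ U
      rwa [pullback.diagonal_snd]
  have hker : (RingHom.ker ((pullback.diagonal f).app (box f U)).hom).comap θ.toRingHom =
      KaehlerDifferential.ideal Γ(S, V) Γ(X, U) := by
    ext x
    rw [Ideal.mem_comap, RingHom.mem_ker]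
    have hd : ∀ y, (pullback.diagonal f).app (box f U) (θ y) = X.presheaf.map (homOfLE hle).op
        (Algebra.TensorProduct.lmul' Γ(S, V) y) := by
      intro y
      induction y with
      | zero => simp only [map_zero]
      | add p q hp hq => simp only [map_add, hp, hq]
      | tmul p q =>
        rw [hθt, map_mul, Algebra.TensorProduct.lmul'_apply_tmul, map_mul]
        congr 1
        · exact diag_app f (pullback.fst f f) (pullback.diagonal_fst f) inf_le_left p hle
        · exact diag_app f (pullback.snd f f) (pullback.diagonal_snd f) inf_le_right q hle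
    haveI : IsIso (homOfLE hle) := ⟨homOfLE hge, Subsingleton.elim _ _, Subsingleton.elim _ _⟩
    exact (Eq.congr_left (hd x)).trans (map_eq_zero_iff _
      (ConcreteCategory.bijective_of_isIso (X.presheaf.map (homOfLE hle).op)).1)
  let ρ := (PrinPart.nbhd f n).presheaf.map (homOfLE (preimage_box f n U).ge).op
  have hρ : Function.Injective ρ := by
    haveI : IsIso (homOfLE (preimage_box f n U).ge) :=
      ⟨homOfLE (preimage_box f n U).le, Subsingleton.elim _ _, Subsingleton.elim _ _⟩
    exact (ConcreteCategory.bijective_of_isIso ρ).1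
  have key : ∀ w, θ' w = ρ ((PrinPart.nbhdι f n).app (box f U) (θ w)) := by
    intro w
    induction w with
    | zero => simp only [map_zero]
    | add p q hp hq => simp only [map_add, hp, hq]
    | tmul p q =>
      rw [hθ', hθt, map_mul, map_mul]
      refine congrArg₂ (· * ·) ?_ ?_
      · exact (congr($(show p₁ ≫ (PrinPart.nbhdι f n).appLE (box f U) (PrinPart.pr1 f n ⁻¹ᵁ U)
          (preimage_box f n U).ge = (PrinPart.pr1 f n).app U by
            rw [Scheme.Hom.appLE_comp_appLE, Scheme.Hom.app_eq_appLE]; rfl) p)).symm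
      · exact (congr($(show p₂ ≫ (PrinPart.nbhdι f n).appLE (box f U) (PrinPart.pr1 f n ⁻¹ᵁ U)
          (preimage_box f n U).ge = d2 f n U by
            rw [Scheme.Hom.appLE_comp_appLE]; rfl) q)).symm
  rw [key, map_eq_zero_iff _ hρ, nbhdι_app_eq_zero_iff f n hU, ← hker,
    show (RingHom.ker ((pullback.diagonal f).app (box f U)).hom) =
      ((RingHom.ker ((pullback.diagonal f).app (box f U)).hom).comap θ.toRingHom).map θ.toRingHom from
      (Ideal.map_comap_of_surjective _ hθ.2 _).symm, ← Ideal.map_pow]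
  rw [Ideal.comap_map_of_bijective θ.toRingHom hθ]
  exact ⟨fun h => by
    obtain ⟨w, hw', hwz⟩ := (Ideal.mem_map_iff_of_surjective _ hθ.2).1 h
    rwa [← hθ.1 hwz], fun h => Ideal.mem_map_of_mem θ.toRingHom h⟩

end PrinPartLib

namespace PrinPartLib

variable (A B A' B' : Type u) [CommRing A] [CommRing B] [Algebra A B] [CommRing A'] [CommRing B']
  [Algebra A' B']

/-- An isomorphism of extensions matches the kernels of multiplication and their powers. -/
theorem exists_tensorEquiv (eA : A ≃+* A') (eB : B ≃+* B')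
    (h : ∀ a, eB (algebraMap A B a) = algebraMap A' B' (eA a)) (k : ℕ) :
    ∃ j : B ⊗[A] B ≃+* B' ⊗[A'] B', (∀ x y, j (x ⊗ₜ[A] y) = eB x ⊗ₜ[A'] eB y) ∧
      ∀ z, j z ∈ KaehlerDifferential.ideal A' B' ^ k ↔ z ∈ KaehlerDifferential.ideal A B ^ k := by
  letI : Algebra A (B' ⊗[A'] B') := ((algebraMap A' (B' ⊗[A'] B')).comp eA.toRingHom).toAlgebra
  letI : Algebra A' (B ⊗[A] B) := ((algebraMap A (B ⊗[A] B)).comp eA.symm.toRingHom).toAlgebra
  let l : B →ₐ[A] B' ⊗[A'] B' :=
    ⟨(Algebra.TensorProduct.includeLeft (R := A') (S := A') (A := B') (B := B')).toRingHom.comp eB.toRingHom,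
      fun a => (congrArg (Algebra.TensorProduct.includeLeft (R := A') (S := A') (A := B') (B := B')) (h a)).trans (AlgHom.commutes (Algebra.TensorProduct.includeLeft (R := A') (S := A') (A := B') (B := B')) (eA a))⟩
  let r : B →ₐ[A] B' ⊗[A'] B' :=
    ⟨(Algebra.TensorProduct.includeRight (R := A') (A := B') (B := B')).toRingHom.comp eB.toRingHom,
      fun a => (congrArg (Algebra.TensorProduct.includeRight (R := A') (A := B') (B := B')) (h a)).trans (AlgHom.commutes (Algebra.TensorProduct.includeRight (R := A') (A := B') (B := B')) (eA a))⟩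
  have h' : ∀ a', eB.symm (algebraMap A' B' a') = algebraMap A B (eA.symm a') := fun a' => by
    rw [RingEquiv.symm_apply_eq, h, RingEquiv.apply_symm_apply]
  let l' : B' →ₐ[A'] B ⊗[A] B :=
    ⟨(Algebra.TensorProduct.includeLeft (R := A) (S := A) (A := B) (B := B)).toRingHom.comp eB.symm.toRingHom,
      fun a => (congrArg (Algebra.TensorProduct.includeLeft (R := A) (S := A) (A := B) (B := B)) (h' a)).trans (AlgHom.commutes (Algebra.TensorProduct.includeLeft (R := A) (S := A) (A := B) (B := B)) (eA.symm a))⟩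
  let r' : B' →ₐ[A'] B ⊗[A] B :=
    ⟨(Algebra.TensorProduct.includeRight (R := A) (A := B) (B := B)).toRingHom.comp eB.symm.toRingHom,
      fun a => (congrArg (Algebra.TensorProduct.includeRight (R := A) (A := B) (B := B)) (h' a)).trans (AlgHom.commutes (Algebra.TensorProduct.includeRight (R := A) (A := B) (B := B)) (eA.symm a))⟩
  let j := Algebra.TensorProduct.lift l r fun _ _ => Commute.all _ _
  let i := Algebra.TensorProduct.lift l' r' fun _ _ => Commute.all _ _
  have hj : ∀ x y, j (x ⊗ₜ[A] y) = eB x ⊗ₜ[A'] eB y := fun x y => by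
    rw [Algebra.TensorProduct.lift_tmul]
    exact (Algebra.TensorProduct.tmul_mul_tmul _ _ _ _).trans (by rw [mul_one, one_mul]; rfl)
  have hi : ∀ x y, i (x ⊗ₜ[A'] y) = eB.symm x ⊗ₜ[A] eB.symm y := fun x y => by
    rw [Algebra.TensorProduct.lift_tmul]
    exact (Algebra.TensorProduct.tmul_mul_tmul _ _ _ _).trans (by rw [mul_one, one_mul]; rfl)
  have hij : ∀ z, i (j z) = z := fun z => by
    induction z with
    | zero => rw [map_zero, map_zero]
    | add x y hx hy => rw [map_add, map_add, hx, hy]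
    | tmul x y => rw [hj, hi, RingEquiv.symm_apply_apply, RingEquiv.symm_apply_apply]
  have hji : ∀ z, j (i z) = z := fun z => by
    induction z with
    | zero => rw [map_zero, map_zero]
    | add x y hx hy => rw [map_add, map_add, hx, hy]
    | tmul x y => rw [hi, hj, RingEquiv.apply_symm_apply, RingEquiv.apply_symm_apply]
  let J : B ⊗[A] B ≃+* B' ⊗[A'] B' :=
    RingEquiv.ofBijective j.toRingHom ⟨fun a b hab => by rw [← hij a, ← hij b]; exact congrArg i hab,
      fun z => ⟨i z, hji z⟩⟩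
  refine ⟨J, hj, fun z => ?_⟩
  have hm : ∀ w, Algebra.TensorProduct.lmul' A' (j w) = eB (Algebra.TensorProduct.lmul' A w) := fun w => by
    induction w with
    | zero => simp only [map_zero]
    | add x y hx hy => simp only [map_add, hx, hy]
    | tmul x y => rw [hj, Algebra.TensorProduct.lmul'_apply_tmul, Algebra.TensorProduct.lmul'_apply_tmul,
        map_mul]
  have hI : (KaehlerDifferential.ideal A B).map (J : B ⊗[A] B →+* B' ⊗[A'] B') =
      KaehlerDifferential.ideal A' B' := by
    ext w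
    rw [Ideal.mem_map_iff_of_surjective (J : B ⊗[A] B →+* B' ⊗[A'] B') J.surjective]
    constructor
    · rintro ⟨v, hv, rfl⟩
      exact (hm v).trans ((congrArg eB hv).trans (map_zero eB))
    · intro hw
      refine ⟨i w, eB.injective (((hm (i w)).symm.trans ?_).trans (map_zero eB).symm), hji w⟩
      rw [hji]
      exact hw
  rw [← hI, ← Ideal.map_pow]
  exact (Ideal.mem_map_iff_of_surjective (J : B ⊗[A] B →+* B' ⊗[A'] B') J.surjective).trans
    ⟨fun ⟨v, hv, e⟩ => J.injective e ▸ hv, fun hz => ⟨z, hz, rfl⟩⟩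

end PrinPartLib
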