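import Groth.Prelude.Def_OmegaPn
import Mathlib.AlgebraicGeometry.Morphisms.Affine
import Mathlib.AlgebraicGeometry.Morphisms.ClosedImmersion
import Mathlib.AlgebraicGeometry.Morphisms.Separated
import Mathlib.AlgebraicGeometry.PullbackCarrier

/-!
# The infinitesimal neighbourhood of the diagonal over small affines

Over an affine `U ⊆ X` mapping into an affine `V ⊆ S` the neighbourhood is affine and its functions
are generated as a ring by the two pullbacks of `Γ(X, U)`.
-/

set_option autoImplicit false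

universe u

open CategoryTheory CategoryTheory.Limits AlgebraicGeometry TopologicalSpace Opposite

namespace PrinPartLib

variable {X S : Scheme.{u}} (f : X ⟶ S) (n : ℕ)

/-- Every open of the neighbourhood comes from `X`. -/
theorem preimage_toNbhd (W : (PrinPart.nbhd f n).Opens) :
    PrinPart.pr1 f n ⁻¹ᵁ (PrinPart.toNbhd f n ⁻¹ᵁ W) = W := by
  ext z
  obtain ⟨y, rfl⟩ := PrinPart.toInfNbhd_surjective (PrinPart.diagCl f) n z
  change PrinPart.toNbhd f n (PrinPart.pr1 f n (PrinPart.toNbhd f n y)) ∈ W ↔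
    PrinPart.toNbhd f n y ∈ W
  have h : PrinPart.pr1 f n (PrinPart.toNbhd f n y) = y := by
    rw [← Scheme.Hom.comp_apply, PrinPart.toNbhd_pr1]; rfl
  rw [h]

/-- The opens of `X` mapping into some affine of `S`, affine themselves. -/
def SmallAffine (U : X.Opens) : Prop :=
  IsAffineOpen U ∧ ∃ V : S.Opens, IsAffineOpen V ∧ U ≤ f ⁻¹ᵁ V

theorem exists_smallAffine {x : X} {U : X.Opens} (hx : x ∈ U) :
    ∃ U', SmallAffine f U' ∧ x ∈ U' ∧ U' ≤ U := by
  obtain ⟨_, ⟨V, hV, rfl⟩, hxV, -⟩ := S.isBasis_affineOpens.exists_subset_of_mem_open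
    (Set.mem_univ (f x)) isOpen_univ
  obtain ⟨_, ⟨U', hU', rfl⟩, hxU, hle⟩ := X.isBasis_affineOpens.exists_subset_of_mem_open
    (show x ∈ (U ⊓ f ⁻¹ᵁ V : X.Opens) from ⟨hx, hxV⟩) (U ⊓ f ⁻¹ᵁ V : X.Opens).2
  exact ⟨U', ⟨hU', V, hV, fun z hz => (hle hz).2⟩, hxU, fun z hz => (hle hz).1⟩

/-- The product `U ×_V U` as an open of `X ×_S X`. -/
noncomputable def box (U : X.Opens) : (pullback f f).Opens :=
  pullback.fst f f ⁻¹ᵁ U ⊓ pullback.snd f f ⁻¹ᵁ U

section Chart

variable {U : X.Opens} {V : S.Opens} (hUV : U ≤ f ⁻¹ᵁ V)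

/-- `U ×_V U ⟶ X ×_S X`. -/
noncomputable def boxMap : pullback (f.resLE V U hUV) (f.resLE V U hUV) ⟶ pullback f f :=
  pullback.map _ _ _ _ U.ι U.ι V.ι (Scheme.Hom.resLE_comp_ι f hUV) (Scheme.Hom.resLE_comp_ι f hUV)

instance : IsOpenImmersion (boxMap f hUV) := by
  delta boxMap; infer_instance

theorem boxMap_fst : boxMap f hUV ≫ pullback.fst f f = pullback.fst _ _ ≫ U.ι :=
  pullback.lift_fst _ _ _

theorem boxMap_snd : boxMap f hUV ≫ pullback.snd f f = pullback.snd _ _ ≫ U.ι :=
  pullback.lift_snd _ _ _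

theorem range_boxMap : (boxMap f hUV).opensRange = box f U := by
  refine Opens.ext ?_
  change Set.range _ = _
  rw [boxMap, Scheme.Pullback.range_map, Scheme.Opens.range_ι]
  rfl

include hUV in
theorem isAffineOpen_box (hU : IsAffineOpen U) (hV : IsAffineOpen V) : IsAffineOpen (box f U) := by
  haveI : IsAffine U.toScheme := hU
  haveI : IsAffine V.toScheme := hV
  haveI : IsAffine (pullback (f.resLE V U hUV) (f.resLE V U hUV)) :=
    IsAffine.of_isPullback (IsPullback.of_hasPullback _ _)
  rw [← range_boxMap f hUV]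
  exact isAffineOpen_opensRange _

include hUV in
theorem box_le_coborderRange (hU : IsAffineOpen U) (hV : IsAffineOpen V) :
    box f U ≤ (pullback.diagonal f).coborderRange := by
  haveI : IsAffine U.toScheme := hU
  haveI : IsAffine V.toScheme := hV
  let h := f.resLE V U hUV
  let q := boxMap f hUV
  have hd : pullback.diagonal h ≫ q = U.ι ≫ pullback.diagonal f := by
    apply pullback.hom_ext
    · rw [Category.assoc, Category.assoc, boxMap_fst, pullback.diagonal_fst_assoc,
        pullback.diagonal_fst, Category.comp_id]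
    · rw [Category.assoc, Category.assoc, boxMap_snd, pullback.diagonal_snd_assoc,
        pullback.diagonal_snd, Category.comp_id]
  have hpre : q ⁻¹' Set.range (pullback.diagonal f) = Set.range (pullback.diagonal h) := by
    refine subset_antisymm (fun y hy => ?_) ?_
    · obtain ⟨x, hx⟩ := hy
      have hxU : x ∈ U := by
        have h1 : q y ∈ box f U := by rw [← range_boxMap f hUV]; exact ⟨y, rfl⟩
        have h2 : pullback.fst f f (pullback.diagonal f x) = x := by
          rw [← Scheme.Hom.comp_apply, pullback.diagonal_fst]; rfl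
        rw [← hx] at h1
        exact h2 ▸ h1.1
      refine ⟨⟨x, hxU⟩, q.isOpenEmbedding.injective ?_⟩
      rw [← Scheme.Hom.comp_apply, hd, Scheme.Hom.comp_apply]
      exact hx
    · rintro _ ⟨x, rfl⟩
      exact ⟨U.ι x, by rw [← Scheme.Hom.comp_apply, ← hd, Scheme.Hom.comp_apply]⟩
  intro z hz
  change z ∈ (closure (Set.range (pullback.diagonal f)) \ Set.range (pullback.diagonal f))ᶜ
  rintro ⟨hc, hn⟩
  obtain ⟨y, rfl⟩ : z ∈ q.opensRange := by rw [range_boxMap f hUV]; exact hz
  have hcl : IsClosed (Set.range (pullback.diagonal h)) :=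
    (pullback.diagonal h).isClosedEmbedding.isClosed_range
  have h1 : y ∈ closure (Set.range (pullback.diagonal h)) := by
    rw [← hpre, ← q.isOpenEmbedding.isOpenMap.preimage_closure_eq_closure_preimage
      q.continuous]
    exact hc
  rw [hcl.closure_eq, ← hpre] at h1
  exact hn h1

theorem preimage_box (U : X.Opens) : PrinPart.nbhdι f n ⁻¹ᵁ box f U = PrinPart.pr1 f n ⁻¹ᵁ U := by
  refine le_antisymm (fun z hz => hz.1) fun z hz => ⟨hz, ?_⟩
  exact (PrinPart.preimage_pr1 f n U).le hz

include hUV in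
theorem surjective_app_box (hU : IsAffineOpen U) (hV : IsAffineOpen V) :
    Function.Surjective ((PrinPart.nbhdι f n).app (box f U)) := by
  let j := (pullback.diagonal f).coborderRange.ι
  let i := PrinPart.infNbhdι (PrinPart.diagCl f) n
  haveI : IsClosedImmersion i := by
    show IsClosedImmersion (Scheme.IdealSheafData.subschemeι _)
    infer_instance
  have hle : box f U ≤ j.opensRange := by
    rw [Scheme.Opens.opensRange_ι]
    exact box_le_coborderRange f hUV hU hV
  have haff : IsAffineOpen (j ⁻¹ᵁ box f U) :=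
    (isAffineOpen_box f hUV hU hV).preimage_of_isOpenImmersion j hle
  haveI : IsIso (j.app (box f U)) := Scheme.Hom.isIso_app j (box f U) hle
  have hi := Scheme.Hom.app_surjective i (j ⁻¹ᵁ box f U) haff
  have hj := (ConcreteCategory.bijective_of_isIso (j.app (box f U))).2
  show Function.Surjective ((i ≫ j).app (box f U))
  rw [Scheme.Hom.comp_app]
  intro t
  obtain ⟨a, ha⟩ := hi t
  obtain ⟨b, rfl⟩ := hj a
  exact ⟨b, ha⟩

include hUV in
theorem closure_box (hU : IsAffineOpen U) (hV : IsAffineOpen V) :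
    Subring.closure (Set.range ((pullback.fst f f).appLE U (box f U) inf_le_left) ∪
      Set.range ((pullback.snd f f).appLE U (box f U) inf_le_right)) = ⊤ := by
  haveI : IsAffine U.toScheme := hU
  haveI : IsAffine V.toScheme := hV
  let h := f.resLE V U hUV
  let q := boxMap f hUV
  have htop : ⊤ ≤ q ⁻¹ᵁ box f U := fun y _ => (range_boxMap f hUV).le ⟨y, rfl⟩
  let ψ := q.appLE (box f U) ⊤ htop
  have hψ : Function.Bijective ψ := by
    have hiso : IsIso (q.app (box f U)) := Scheme.Hom.isIso_app q _ (range_boxMap f hUV).ge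
    have hres : IsIso ((pullback h h).presheaf.map (homOfLE htop).op) := by
      haveI : IsIso (homOfLE htop) := ⟨homOfLE le_top, Subsingleton.elim _ _, Subsingleton.elim _ _⟩
      infer_instance
    have : IsIso ψ := by
      show IsIso (q.app (box f U) ≫ (pullback h h).presheaf.map (homOfLE htop).op)
      infer_instance
    exact ConcreteCategory.bijective_of_isIso ψ
  have hP := isPushout_appTop_of_isPullback (IsPullback.of_hasPullback h h)
  let R := Subring.closure (Set.range (pullback.fst h h).appTop ∪ Set.range (pullback.snd h h).appTop)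
  have hR : R = ⊤ := by
    let incl : CommRingCat.of R ⟶ _ := CommRingCat.ofHom R.subtype
    let a : _ ⟶ CommRingCat.of R := CommRingCat.ofHom
      ((pullback.fst h h).appTop.hom.codRestrict R fun x => Subring.subset_closure (Or.inl ⟨x, rfl⟩))
    let b : _ ⟶ CommRingCat.of R := CommRingCat.ofHom
      ((pullback.snd h h).appTop.hom.codRestrict R fun x => Subring.subset_closure (Or.inr ⟨x, rfl⟩))
    haveI : Mono incl := ConcreteCategory.mono_of_injective _ Subtype.val_injective
    have w : h.appTop ≫ a = h.appTop ≫ b := by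
      rw [← cancel_mono incl]
      exact hP.w
    have hd : hP.desc a b w ≫ incl = 𝟙 _ := by
      apply hP.hom_ext
      · rw [hP.inl_desc_assoc, Category.comp_id]; rfl
      · rw [hP.inr_desc_assoc, Category.comp_id]; rfl
    refine eq_top_iff.2 fun x _ => ?_
    have := congr($hd x)
    change ((hP.desc a b w) x).1 = x at this
    rw [← this]
    exact ((hP.desc a b w) x).2
  have key : ∀ (p : pullback f f ⟶ X) (p' : pullback h h ⟶ U.toScheme) (e : box f U ≤ p ⁻¹ᵁ U),
      q ≫ p = p' ≫ U.ι → Set.range p'.appTop ⊆ ψ '' Set.range (p.appLE U (box f U) e) := by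
    rintro p p' e hsq _ ⟨a, rfl⟩
    obtain ⟨b, rfl⟩ : ∃ b : Γ(X, U), U.ι.appLE U ⊤ (U.ι_preimage_self).ge b = a :=
          (ConcreteCategory.bijective_of_isIso (U.ι.appLE U ⊤ (U.ι_preimage_self).ge)).2 a
    refine ⟨p.appLE U (box f U) e b, ⟨b, rfl⟩, ?_⟩
    have h1 : p.appLE U (box f U) e ≫ ψ = U.ι.appLE U ⊤ (U.ι_preimage_self).ge ≫ p'.appTop := by
      rw [Scheme.Hom.appLE_comp_appLE]
      show _ = U.ι.appLE U ⊤ _ ≫ p'.app ⊤
      rw [Scheme.Hom.app_eq_appLE, Scheme.Hom.appLE_comp_appLE]
      simp only [hsq]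
      rfl
    exact congr($h1 b)
  refine eq_top_iff.2 fun x _ => ?_
  have hx : ψ x ∈ R := hR.ge trivial
  have hle : R ≤ (Subring.closure (Set.range ((pullback.fst f f).appLE U (box f U) inf_le_left) ∪
      Set.range ((pullback.snd f f).appLE U (box f U) inf_le_right))).map ψ.hom := by
    rw [RingHom.map_closure, Set.image_union]
    exact Subring.closure_mono (Set.union_subset_union
      (key _ _ _ (boxMap_fst f hUV)) (key _ _ _ (boxMap_snd f hUV)))
  obtain ⟨y, hy, hyx⟩ := hle hx
  rwa [← hψ.1 hyx]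

end Chart

end PrinPartLib
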