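import Groth.Agent.PrinPartLib.Ker
import Mathlib.Topology.Sheaves.Stalks

/-!
# Factoring an operator through the principal parts
-/

set_option autoImplicit false

universe u

open CategoryTheory CategoryTheory.Limits AlgebraicGeometry TopologicalSpace Opposite
open scoped TensorProduct

namespace PrinPartLib

variable {X S : Scheme.{u}} (f : X ⟶ S) (n : ℕ)

/-- The second projection on functions, over `pr1⁻¹ U`. -/
noncomputable abbrev d2 (U : X.Opens) :=
  (PrinPart.pr2 f n).appLE U (PrinPart.pr1 f n ⁻¹ᵁ U) (PrinPart.preimage_pr1 f n U).le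

/-- `b ⊗ c ↦ pr1♯ b · pr2♯ c`. -/
noncomputable def pairFn (U : X.Opens) :
    Γ(X, U) ⊗[ℤ] Γ(X, U) →+ Γ(PrinPart.nbhd f n, PrinPart.pr1 f n ⁻¹ᵁ U) :=
  (TensorProduct.lift ((LinearMap.mul ℤ Γ(PrinPart.nbhd f n, PrinPart.pr1 f n ⁻¹ᵁ U)).compl₁₂
    ((PrinPart.pr1 f n).app U).hom.toAddMonoidHom.toIntLinearMap
    (d2 f n U).hom.toAddMonoidHom.toIntLinearMap)).toAddMonoidHom

theorem pairFn_tmul (U : X.Opens) (b c : Γ(X, U)) :
    pairFn f n U (b ⊗ₜ c) = (PrinPart.pr1 f n).app U b * d2 f n U c := rfl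

theorem pairFn_mul (U : X.Opens) (a b : Γ(X, U) ⊗[ℤ] Γ(X, U)) :
    pairFn f n U (a * b) = pairFn f n U a * pairFn f n U b := by
  induction a with
  | zero => rw [zero_mul, map_zero, zero_mul]
  | add a a' ha ha' => rw [add_mul, map_add, map_add, ha, ha', add_mul]
  | tmul p q =>
    induction b with
    | zero => rw [mul_zero, map_zero, mul_zero]
    | add b b' hb hb' => rw [mul_add, map_add, map_add, hb, hb', mul_add]
    | tmul p' q' =>
      rw [Algebra.TensorProduct.tmul_mul_tmul, pairFn_tmul, pairFn_tmul, pairFn_tmul, map_mul,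
        map_mul, mul_mul_mul_comm]

theorem pairFn_surjective {U : X.Opens} (hU : SmallAffine f U) :
    Function.Surjective (pairFn f n U) := by
  intro x
  have hx : x ∈ Subring.closure (Set.range ((PrinPart.pr1 f n).app U) ∪ Set.range (d2 f n U)) :=
    (closure_nbhd f n hU).ge trivial
  induction hx using Subring.closure_induction with
  | mem x hx =>
    rcases hx with ⟨a, rfl⟩ | ⟨a, rfl⟩
    · exact ⟨a ⊗ₜ 1, by rw [pairFn_tmul, map_one, mul_one]⟩
    · exact ⟨1 ⊗ₜ a, by rw [pairFn_tmul, map_one, one_mul]⟩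
  | zero => exact ⟨0, map_zero _⟩
  | one => exact ⟨1 ⊗ₜ 1, by rw [pairFn_tmul, map_one, map_one, one_mul]⟩
  | add x y _ _ hx hy =>
    obtain ⟨a, rfl⟩ := hx; obtain ⟨b, rfl⟩ := hy; exact ⟨a + b, map_add _ _ _⟩
  | neg x _ hx => obtain ⟨a, rfl⟩ := hx; exact ⟨-a, map_neg _ _⟩
  | mul x y _ _ hx hy =>
    obtain ⟨a, rfl⟩ := hx; obtain ⟨b, rfl⟩ := hy
    exact ⟨a * b, pairFn_mul f n U a b⟩

variable {F G : X.Modules} (D : F.presheaf ⟶ G.presheaf)

/-- `b ⊗ c ↦ b • D (c • t)`, additively in both arguments. -/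
noncomputable def pairVal (U : X.Opens) (t : Γ(F, U)) : Γ(X, U) ⊗[ℤ] Γ(X, U) →+ Γ(G, U) :=
  (TensorProduct.lift (LinearMap.mk₂ ℤ (fun b c : Γ(X, U) => b • (D.app (op U)).hom (c • t))
    (fun b b' c => add_smul b b' ((D.app (op U)).hom (c • t)))
    (fun z b c => smul_assoc z b ((D.app (op U)).hom (c • t)))
    (fun b c c' => by rw [add_smul, map_add, smul_add])
    (fun z b c => by rw [smul_assoc, map_zsmul, smul_comm]))).toAddMonoidHom

theorem pairVal_tmul (U : X.Opens) (t : Γ(F, U)) (b c : Γ(X, U)) :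
    pairVal D U t (b ⊗ₜ c) = b • (D.app (op U)).hom (c • t) := rfl

theorem pairVal_one_mul (U : X.Opens) (t : Γ(F, U)) (b : Γ(X, U)) (z : Γ(X, U) ⊗[ℤ] Γ(X, U)) :
    pairVal D U t (((1 : Γ(X, U)) ⊗ₜ b) * z) = pairVal D U (b • t) z := by
  induction z with
  | zero => rw [mul_zero, map_zero, map_zero]
  | add a a' ha ha' => rw [mul_add, map_add, map_add, ha, ha']
  | tmul p q =>
    rw [Algebra.TensorProduct.tmul_mul_tmul, pairVal_tmul, pairVal_tmul, one_mul, mul_comm b q,
      mul_smul]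

theorem pairVal_add (U : X.Opens) (t t' : Γ(F, U)) (z : Γ(X, U) ⊗[ℤ] Γ(X, U)) :
    pairVal D U (t + t') z = pairVal D U t z + pairVal D U t' z := by
  induction z with
  | zero => simp only [map_zero, add_zero]
  | add a b ha hb => simp only [map_add, ha, hb]; abel
  | tmul b c => simp only [pairVal_tmul, smul_add, map_add]

variable {D}

theorem pairVal_eq_zero (hlin : SLinear f D) (hD : AltVanish n D) {U : X.Opens} (hU : SmallAffine f U)
    (z : Γ(X, U) ⊗[ℤ] Γ(X, U)) (hz : pairFn f n U z = 0) (t : Γ(F, U)) : pairVal D U t z = 0 := by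
  obtain ⟨s, rfl⟩ := TensorProduct.exists_finset z
  rw [map_sum] at hz ⊢
  exact pair_eq_zero f n hlin hD hU s Prod.fst Prod.snd hz t

/-- Restriction on pairs. -/
noncomputable def pairRes {U U' : X.Opens} (h : U' ≤ U) :
    Γ(X, U) ⊗[ℤ] Γ(X, U) →+ Γ(X, U') ⊗[ℤ] Γ(X, U') :=
  (TensorProduct.map (X.presheaf.map (homOfLE h).op).hom.toAddMonoidHom.toIntLinearMap
    (X.presheaf.map (homOfLE h).op).hom.toAddMonoidHom.toIntLinearMap).toAddMonoidHom

theorem pairRes_tmul {U U' : X.Opens} (h : U' ≤ U) (b c : Γ(X, U)) :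
    pairRes h (b ⊗ₜ c) =
      X.presheaf.map (homOfLE h).op b ⊗ₜ X.presheaf.map (homOfLE h).op c := rfl

theorem d2_res {U U' : X.Opens} (h : U' ≤ U) (c : Γ(X, U)) :
    d2 f n U' (X.presheaf.map (homOfLE h).op c) =
      (PrinPart.nbhd f n).presheaf.map (homOfLE ((PrinPart.pr1 f n).preimage_mono h)).op (d2 f n U c) := by
  have e : X.presheaf.map (homOfLE h).op ≫ d2 f n U' =
      d2 f n U ≫ (PrinPart.nbhd f n).presheaf.map (homOfLE ((PrinPart.pr1 f n).preimage_mono h)).op := by
    simp only [d2, Scheme.Hom.map_appLE, Scheme.Hom.appLE_map]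
  exact congr($e c)

theorem pairFn_res {U U' : X.Opens} (h : U' ≤ U) (z : Γ(X, U) ⊗[ℤ] Γ(X, U)) :
    pairFn f n U' (pairRes h z) =
      (PrinPart.nbhd f n).presheaf.map (homOfLE ((PrinPart.pr1 f n).preimage_mono h)).op
        (pairFn f n U z) := by
  induction z with
  | zero => simp only [map_zero]
  | add a b ha hb => simp only [map_add, ha, hb]
  | tmul b c =>
    rw [pairRes_tmul, pairFn_tmul, pairFn_tmul, map_mul, d2_res]
    congr 1
    exact congr($((PrinPart.pr1 f n).naturality (homOfLE h).op) b)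

variable (D) in
theorem pairVal_res {U U' : X.Opens} (h : U' ≤ U) (t : Γ(F, U)) (z : Γ(X, U) ⊗[ℤ] Γ(X, U)) :
    pairVal D U' (F.presheaf.map (homOfLE h).op t) (pairRes h z) =
      G.presheaf.map (homOfLE h).op (pairVal D U t z) := by
  induction z with
  | zero => simp only [map_zero]
  | add a b ha hb => simp only [map_add, ha, hb]
  | tmul b c =>
    rw [pairRes_tmul, pairVal_tmul, pairVal_tmul, Scheme.Modules.map_smul, ← Scheme.Modules.map_smul F]
    congr 1
    exact congr($(D.naturality (homOfLE h).op) (c • t))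

section Stalk

variable (y : PrinPart.nbhd f n)

theorem mem_pr1 {U : X.Opens} (hx : PrinPart.pr2 f n y ∈ U) : y ∈ PrinPart.pr1 f n ⁻¹ᵁ U :=
  (PrinPart.preimage_pr1 f n U).ge hx

/-- Germs on the neighbourhood are represented by pairs over small affines. -/
theorem exists_rep (c : (PrinPart.nbhd f n).presheaf.stalk y) (U₀ : X.Opens)
    (hx₀ : PrinPart.pr2 f n y ∈ U₀) :
    ∃ (U : X.Opens) (_ : SmallAffine f U) (_ : U ≤ U₀) (hx : PrinPart.pr2 f n y ∈ U)
      (z : Γ(X, U) ⊗[ℤ] Γ(X, U)),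
      (PrinPart.nbhd f n).presheaf.germ _ y (mem_pr1 f n y hx) (pairFn f n U z) = c := by
  obtain ⟨W, hyW, c', rfl⟩ := (PrinPart.nbhd f n).presheaf.exists_germ_eq (x := y) c
  have hxW : PrinPart.pr2 f n y ∈ U₀ ⊓ PrinPart.toNbhd f n ⁻¹ᵁ W := by
    refine ⟨hx₀, ?_⟩
    have := (preimage_toNbhd f n W).ge hyW
    rw [PrinPart.preimage_pr1] at this
    exact this
  obtain ⟨U, hU, hx, hle⟩ := exists_smallAffine f hxW
  have hW : PrinPart.pr1 f n ⁻¹ᵁ U ≤ W :=
    ((PrinPart.pr1 f n).preimage_mono (hle.trans inf_le_right)).trans (preimage_toNbhd f n W).le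
  obtain ⟨z, hz⟩ := pairFn_surjective f n hU ((PrinPart.nbhd f n).presheaf.map (homOfLE hW).op c')
  refine ⟨U, hU, hle.trans inf_le_left, hx, z, ?_⟩
  rw [hz]
  exact TopCat.Presheaf.germ_res_apply _ _ _ _ _

variable (hlin : SLinear f D) (hD : AltVanish n D)
include hlin hD

theorem germ_pairVal_congr {U U' : X.Opens} (hU : SmallAffine f U) (hU' : SmallAffine f U')
    (hx : PrinPart.pr2 f n y ∈ U) (hx' : PrinPart.pr2 f n y ∈ U')
    (z : Γ(X, U) ⊗[ℤ] Γ(X, U)) (z' : Γ(X, U') ⊗[ℤ] Γ(X, U'))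
    (hz : (PrinPart.nbhd f n).presheaf.germ _ y (mem_pr1 f n y hx) (pairFn f n U z) =
      (PrinPart.nbhd f n).presheaf.germ _ y (mem_pr1 f n y hx') (pairFn f n U' z'))
    (t : Γ(F, U)) (t' : Γ(F, U'))
    (ht : F.presheaf.germ U _ hx t = F.presheaf.germ U' _ hx' t') :
    G.presheaf.germ U _ hx (pairVal D U t z) = G.presheaf.germ U' _ hx' (pairVal D U' t' z') := by
  obtain ⟨O, hyO, i₁, i₂, hO⟩ := TopCat.Presheaf.germ_eq (PrinPart.nbhd f n).presheaf y
    (mem_pr1 f n y hx) (mem_pr1 f n y hx') _ _ hz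
  obtain ⟨O', hxO', j₁, j₂, hO'⟩ := TopCat.Presheaf.germ_eq F.presheaf _ hx hx' t t' ht
  have hxT : PrinPart.pr2 f n y ∈ O' ⊓ PrinPart.toNbhd f n ⁻¹ᵁ O := by
    refine ⟨hxO', ?_⟩
    have := (preimage_toNbhd f n O).ge hyO
    rw [PrinPart.preimage_pr1] at this
    exact this
  obtain ⟨U'', hU'', hx'', hle⟩ := exists_smallAffine f hxT
  have hW : PrinPart.pr1 f n ⁻¹ᵁ U'' ≤ O :=
    ((PrinPart.pr1 f n).preimage_mono (hle.trans inf_le_right)).trans (preimage_toNbhd f n O).le
  have h₁ : U'' ≤ U := hle.trans (inf_le_left.trans j₁.le)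
  have h₂ : U'' ≤ U' := hle.trans (inf_le_left.trans j₂.le)
  have e1 : pairFn f n U'' (pairRes h₁ z - pairRes h₂ z') = 0 := by
    rw [map_sub, sub_eq_zero, pairFn_res, pairFn_res]
    have := congrArg ((PrinPart.nbhd f n).presheaf.map (homOfLE hW).op) hO
    simp only [← ConcreteCategory.comp_apply, ← Functor.map_comp, ← op_comp] at this
    exact this
  have e2 : F.presheaf.map (homOfLE h₁).op t = F.presheaf.map (homOfLE h₂).op t' := by
    have := congrArg (F.presheaf.map (homOfLE (hle.trans inf_le_left)).op) hO'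
    simp only [← ConcreteCategory.comp_apply, ← Functor.map_comp, ← op_comp] at this
    exact this
  have e3 : G.presheaf.map (homOfLE h₁).op (pairVal D U t z) =
      G.presheaf.map (homOfLE h₂).op (pairVal D U' t' z') := by
    rw [← pairVal_res D h₁, ← pairVal_res D h₂, e2, ← sub_eq_zero, ← map_sub]
    exact pairVal_eq_zero f n hlin hD hU'' _ e1 _
  rw [← TopCat.Presheaf.germ_res_apply G.presheaf (homOfLE h₁) _ hx'',
    ← TopCat.Presheaf.germ_res_apply G.presheaf (homOfLE h₂) _ hx'', e3]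

/-- The value of the pairing on germs. -/
theorem exists_stalkVal :
    ∃ v : (PrinPart.nbhd f n).presheaf.stalk y →+ F.presheaf.stalk (PrinPart.pr2 f n y) →+
        G.presheaf.stalk (PrinPart.pr2 f n y),
      ∀ (U : X.Opens) (_ : SmallAffine f U) (hx : PrinPart.pr2 f n y ∈ U)
        (z : Γ(X, U) ⊗[ℤ] Γ(X, U)) (t : Γ(F, U)),
        v ((PrinPart.nbhd f n).presheaf.germ _ y (mem_pr1 f n y hx) (pairFn f n U z))
          (F.presheaf.germ U _ hx t) = G.presheaf.germ U _ hx (pairVal D U t z) := by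
  classical
  let IsV : (PrinPart.nbhd f n).presheaf.stalk y → F.presheaf.stalk (PrinPart.pr2 f n y) →
      G.presheaf.stalk (PrinPart.pr2 f n y) → Prop := fun c m g =>
    ∃ (U : X.Opens) (_ : SmallAffine f U) (hx : PrinPart.pr2 f n y ∈ U) (z : Γ(X, U) ⊗[ℤ] Γ(X, U))
      (t : Γ(F, U)),
      (PrinPart.nbhd f n).presheaf.germ _ y (mem_pr1 f n y hx) (pairFn f n U z) = c ∧
      F.presheaf.germ U _ hx t = m ∧ G.presheaf.germ U _ hx (pairVal D U t z) = g
  have huniq : ∀ c m g g', IsV c m g → IsV c m g' → g = g' := by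
    rintro c m g g' ⟨U, hU, hx, z, t, rfl, rfl, rfl⟩ ⟨U', hU', hx', z', t', hc, hm, rfl⟩
    exact germ_pairVal_congr f n y hlin hD hU hU' hx hx' z z' hc.symm t t' hm.symm
  -- common representatives
  have hcommon : ∀ (c : (PrinPart.nbhd f n).presheaf.stalk y)
      (m : F.presheaf.stalk (PrinPart.pr2 f n y)) (U₀ : X.Opens) (_ : PrinPart.pr2 f n y ∈ U₀),
      ∃ (U : X.Opens) (_ : SmallAffine f U) (_ : U ≤ U₀) (hx : PrinPart.pr2 f n y ∈ U)
        (z : Γ(X, U) ⊗[ℤ] Γ(X, U)) (t : Γ(F, U)),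
        (PrinPart.nbhd f n).presheaf.germ _ y (mem_pr1 f n y hx) (pairFn f n U z) = c ∧
        F.presheaf.germ U _ hx t = m := by
    intro c m U₀ hx₀
    obtain ⟨U₁, hx₁, t₁, rfl⟩ := DevissLib.exists_gm_eq F (PrinPart.pr2 f n y) m
    obtain ⟨U, hU, hle, hx, z, hz⟩ := exists_rep f n y c (U₀ ⊓ U₁) ⟨hx₀, hx₁⟩
    exact ⟨U, hU, hle.trans inf_le_left, hx, z,
      F.presheaf.map (homOfLE (hle.trans inf_le_right)).op t₁, hz,
      TopCat.Presheaf.germ_res_apply _ _ _ _ _⟩
  have htotal : ∀ c m, ∃ g, IsV c m g := fun c m => by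
    obtain ⟨U, hU, -, hx, z, t, hc, hm⟩ := hcommon c m ⊤ trivial
    exact ⟨_, U, hU, hx, z, t, hc, hm, rfl⟩
  choose val hval using htotal
  have haddr : ∀ c m m', val c (m + m') = val c m + val c m' := by
    intro c m m'
    obtain ⟨U₁, hU₁, -, hx₁, z₁, t₁, hc₁, hm₁⟩ := hcommon c m ⊤ trivial
    obtain ⟨U, hU, hle, hx, z, t', hc, hm'⟩ := hcommon c m' U₁ hx₁
    let t := F.presheaf.map (homOfLE hle).op t₁
    have hm : F.presheaf.germ U _ hx t = m :=
      (TopCat.Presheaf.germ_res_apply _ _ _ _ _).trans hm₁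
    rw [huniq _ _ _ _ (hval c m) ⟨U, hU, hx, z, t, hc, hm, rfl⟩,
      huniq _ _ _ _ (hval c m') ⟨U, hU, hx, z, t', hc, hm', rfl⟩]
    refine huniq _ _ _ _ (hval c (m + m')) ⟨U, hU, hx, z, t + t', hc, by rw [map_add, hm, hm'], ?_⟩
    rw [pairVal_add, map_add]
  have haddl : ∀ c c' m, val (c + c') m = val c m + val c' m := by
    intro c c' m
    obtain ⟨U₁, hU₁, -, hx₁, z₁, t₁, hc₁, hm₁⟩ := hcommon c m ⊤ trivial
    obtain ⟨U, hU, hle, hx, z', t, hc', hm⟩ := hcommon c' m U₁ hx₁
    let z := pairRes hle z₁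
    have hc : (PrinPart.nbhd f n).presheaf.germ _ y (mem_pr1 f n y hx) (pairFn f n U z) = c := by
      rw [pairFn_res, TopCat.Presheaf.germ_res_apply]
      exact hc₁
    rw [huniq _ _ _ _ (hval c m) ⟨U, hU, hx, z, t, hc, hm, rfl⟩,
      huniq _ _ _ _ (hval c' m) ⟨U, hU, hx, z', t, hc', hm, rfl⟩]
    refine huniq _ _ _ _ (hval (c + c') m)
      ⟨U, hU, hx, z + z', t, by rw [map_add, map_add, hc, hc'], hm, ?_⟩
    rw [map_add, map_add]
  let v : (PrinPart.nbhd f n).presheaf.stalk y →+ F.presheaf.stalk (PrinPart.pr2 f n y) →+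
      G.presheaf.stalk (PrinPart.pr2 f n y) :=
    AddMonoidHom.mk' (fun c => AddMonoidHom.mk' (fun m => val c m) (haddr c))
      fun c c' => AddMonoidHom.ext fun m => haddl c c' m
  exact ⟨v, fun U hU hx z t => huniq _ _ _ _ (hval _ _) ⟨U, hU, hx, z, t, rfl, rfl, rfl⟩⟩

/-- The value of the operator on the stalk of the pulled back module. -/
theorem exists_stalkMap :
    ∃ L : ((Scheme.Modules.pullback (PrinPart.pr2 f n)).obj F).presheaf.stalk y →+
        G.presheaf.stalk (PrinPart.pr2 f n y),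
      ∀ (U : X.Opens) (hx : PrinPart.pr2 f n y ∈ U) (a : Γ(X, U)) (t : Γ(F, U)),
        L (((Scheme.Modules.pullback (PrinPart.pr2 f n)).obj F).presheaf.germ _ y (mem_pr1 f n y hx)
            ((PrinPart.pr1 f n).app U a • dPs f n F U t)) =
          G.presheaf.germ U _ hx (a • (D.app (op U)).hom t) := by
  obtain ⟨v, hv⟩ := exists_stalkVal f n y hlin hD
  let p := PrinPart.pr2 f n
  let P := (Scheme.Modules.pullback p).obj F
  letI := (p.stalkMap y).hom.toAlgebra
  have hbal : ∀ (r : X.presheaf.stalk (p y)) (c : (PrinPart.nbhd f n).presheaf.stalk y)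
      (m : (DevissLib.St (p y)).obj F), v (r • c) m = v c (r • m : (DevissLib.St (p y)).obj F) := by
    intro r c m
    obtain ⟨Ur, hxr, r', rfl⟩ := X.presheaf.exists_germ_eq (x := p y) r
    obtain ⟨Um, hxm, t₁, rfl⟩ := DevissLib.exists_gm_eq F (p y) m
    obtain ⟨U, hU, hle, hx, z, hz⟩ := exists_rep f n y c (Ur ⊓ Um) ⟨hxr, hxm⟩
    let b := X.presheaf.map (homOfLE (hle.trans inf_le_left)).op r'
    let t := F.presheaf.map (homOfLE (hle.trans inf_le_right)).op t₁
    have hb : X.presheaf.germ Ur (p y) hxr r' = X.presheaf.germ U (p y) hx b :=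
      (TopCat.Presheaf.germ_res_apply X.presheaf _ (p y) hx r').symm
    have ht : DevissLib.gm F (p y) hxm t₁ = DevissLib.gm F (p y) hx t :=
      (DevissLib.gm_map F (hle.trans inf_le_right) (p y) hx t₁).symm
    have h1 : X.presheaf.germ U (p y) hx b • c =
        (PrinPart.nbhd f n).presheaf.germ _ y (mem_pr1 f n y hx)
          (pairFn f n U (((1 : Γ(X, U)) ⊗ₜ b) * z)) := by
      rw [← hz]
      have hmul : pairFn f n U (((1 : Γ(X, U)) ⊗ₜ b) * z) = d2 f n U b * pairFn f n U z := by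
        rw [pairFn_mul, pairFn_tmul, map_one, one_mul]
      rw [hmul, map_mul]
      refine congrArg (· * _) ?_
      show p.stalkMap y (X.presheaf.germ U (p y) hx b) = _
      rw [Scheme.Hom.germ_stalkMap_apply]
      exact (TopCat.Presheaf.germ_res_apply (PrinPart.nbhd f n).presheaf _ y _ _).symm
    have h2 : pairVal D U t (((1 : Γ(X, U)) ⊗ₜ b) * z) = pairVal D U (b • t) z :=
      pairVal_one_mul D U t b z
    rw [ht, hb, h1, ← DevissLib.gm_smul, ← hz]
    exact (hv U hU hx _ t).trans ((congrArg _ h2).trans (hv U hU hx z (b • t)).symm)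
  let Φ := TensorProduct.liftAddHom (R := X.presheaf.stalk (p y)) (M := (PrinPart.nbhd f n).presheaf.stalk y)
    (N := (DevissLib.St (p y)).obj F) v hbal
  let θ := (KFlatLib.stalkPullIso p y).app F
  refine ⟨Φ.comp θ.hom.hom.toAddMonoidHom, fun U hx a t => ?_⟩
  obtain ⟨U', hU', hx', hle⟩ := exists_smallAffine f hx
  let a' := X.presheaf.map (homOfLE hle).op a
  let t' := F.presheaf.map (homOfLE hle).op t
  let c := (PrinPart.nbhd f n).presheaf.germ (PrinPart.pr1 f n ⁻¹ᵁ U) y (mem_pr1 f n y hx)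
    ((PrinPart.pr1 f n).app U a)
  have h1 : θ.inv.hom (c ⊗ₜ[X.presheaf.stalk (p y)] DevissLib.gm F (p y) hx t) =
      DevissLib.gm P y (mem_pr1 f n y hx) ((PrinPart.pr1 f n).app U a • dPs f n F U t) := by
    rw [DevissLib.gm_smul, dPs, PrinPart.dP_apply, DevissLib.gm_map]
    have e : c ⊗ₜ[X.presheaf.stalk (p y)] DevissLib.gm F (p y) hx t =
        c • ((1 : (PrinPart.nbhd f n).presheaf.stalk y) ⊗ₜ[X.presheaf.stalk (p y)]
          DevissLib.gm F (p y) hx t) := by
      rw [TensorProduct.smul_tmul', smul_eq_mul, mul_one]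
    exact ((congrArg θ.inv.hom e).trans (θ.inv.hom.map_smul _ _)).trans
      (congrArg (c • ·) (KFlatLib.stalkPullInv_germ p F y hx t))
  show Φ (θ.hom.hom (DevissLib.gm P y (mem_pr1 f n y hx) _)) = _
  rw [← h1]
  refine (congrArg Φ (congr($(θ.inv_hom_id) (c ⊗ₜ[X.presheaf.stalk (p y)] DevissLib.gm F (p y) hx t)))).trans ?_
  show v c (DevissLib.gm F (p y) hx t) = _
  have hc : c = (PrinPart.nbhd f n).presheaf.germ _ y (mem_pr1 f n y hx')
      (pairFn f n U' (a' ⊗ₜ 1)) := by
    rw [pairFn_tmul, map_one, mul_one,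
      show (PrinPart.pr1 f n).app U' a' = (PrinPart.nbhd f n).presheaf.map
        (homOfLE ((PrinPart.pr1 f n).preimage_mono hle)).op ((PrinPart.pr1 f n).app U a) from
        congr($((PrinPart.pr1 f n).naturality (homOfLE hle).op) a),
      TopCat.Presheaf.germ_res_apply]
  rw [hc, ← DevissLib.gm_map F hle (p y) hx' t]
  refine (hv U' hU' hx' _ t').trans ?_
  rw [pairVal_tmul, one_smul,
    show (D.app (op U')).hom t' = G.presheaf.map (homOfLE hle).op ((D.app (op U)).hom t) from
      congr($(D.naturality (homOfLE hle).op) t), ← Scheme.Modules.map_smul]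
  exact TopCat.Presheaf.germ_res_apply G.presheaf _ _ _ _

omit hlin hD in
theorem germ_smulG {U : X.Opens} (hx : PrinPart.pr2 f n y ∈ U) (r : Γ(X, U)) (g : Γ(G, U)) :
    G.presheaf.germ U _ hx (r • g) =
      (X.presheaf.germ U _ hx r •
        (DevissLib.gm G _ hx g : (DevissLib.St (PrinPart.pr2 f n y)).obj G) :) :=
  DevissLib.gm_smul G _ hx r g

theorem L_smul
    (L : ((Scheme.Modules.pullback (PrinPart.pr2 f n)).obj F).presheaf.stalk y →+
        G.presheaf.stalk (PrinPart.pr2 f n y))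
    (hL : ∀ (U : X.Opens) (hx : PrinPart.pr2 f n y ∈ U) (a : Γ(X, U)) (t : Γ(F, U)),
        L (((Scheme.Modules.pullback (PrinPart.pr2 f n)).obj F).presheaf.germ _ y (mem_pr1 f n y hx)
            ((PrinPart.pr1 f n).app U a • dPs f n F U t)) =
          G.presheaf.germ U _ hx (a • (D.app (op U)).hom t))
    {U : X.Opens} (hx : PrinPart.pr2 f n y ∈ U) (r : Γ(X, U))
    (z : Γ((Scheme.Modules.pullback (PrinPart.pr2 f n)).obj F, PrinPart.pr1 f n ⁻¹ᵁ U)) :
    L (((Scheme.Modules.pullback (PrinPart.pr2 f n)).obj F).presheaf.germ _ y (mem_pr1 f n y hx)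
        ((PrinPart.pr1 f n).app U r • z)) =
      (X.presheaf.germ U _ hx r •
        (L (((Scheme.Modules.pullback (PrinPart.pr2 f n)).obj F).presheaf.germ _ y (mem_pr1 f n y hx) z) :
          (DevissLib.St (PrinPart.pr2 f n y)).obj G) :) := by
  let P := (Scheme.Modules.pullback (PrinPart.pr2 f n)).obj F
  let L' : (DevissLib.St y).obj P →+ (DevissLib.St (PrinPart.pr2 f n y)).obj G := L
  let Q : ∀ W, Γ(P, W) → Prop := fun W z => ∀ (hy : y ∈ W),
    L' ((PrinPart.nbhd f n).presheaf.germ _ y (mem_pr1 f n y hx)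
      ((PrinPart.pr1 f n).app U r) • DevissLib.gm P y hy z) =
      X.presheaf.germ U _ hx r • L' (DevissLib.gm P y hy z)
  have hQ : Q _ z := by
    refine pullback_induction (PrinPart.pr2 f n) F Q ?_ ?_ ?_ ?_ ?_ _ z
    · intro W W' hle z hz hy
      rw [DevissLib.gm_map]
      exact hz (hle hy)
    · intro W z hz hy
      obtain ⟨W', hW', hxW', hQ⟩ := hz y hy
      have := hQ hxW'
      rwa [DevissLib.gm_map] at this
    · intro W hy
      rw [DevissLib.gm_zero, smul_zero, map_zero, smul_zero]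
    · intro W z z' hz hz' hy
      have hadd : DevissLib.gm P y hy (z + z') = DevissLib.gm P y hy z + DevissLib.gm P y hy z' :=
        map_add (P.presheaf.germ W y hy).hom z z'
      rw [hadd, smul_add, map_add, hz hy, hz' hy, map_add, smul_add]
    · intro W U₀ hW c t hy
      have hxU₀ : PrinPart.pr2 f n y ∈ U₀ := hW hy
      obtain ⟨U', hU', hle', hx', e, he⟩ := exists_rep f n y
        ((PrinPart.nbhd f n).presheaf.germ W y hy c) (U ⊓ U₀) ⟨hx, hxU₀⟩
      let t' := F.presheaf.map (homOfLE (hle'.trans inf_le_right)).op t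
      let r' := X.presheaf.map (homOfLE (hle'.trans inf_le_left)).op r
      have h0 : DevissLib.gm P y hy
          (c • P.presheaf.map (homOfLE hW).op (OmegaSh.pullSect (PrinPart.pr2 f n) F U₀ t)) =
          DevissLib.gm P y (mem_pr1 f n y hx') (pairFn f n U' e • dPs f n F U' t') := by
        rw [DevissLib.gm_smul, DevissLib.gm_smul, DevissLib.gm_map, he, dPs, PrinPart.dP_apply,
          OmegaSh.pullSect_map, DevissLib.gm_map, DevissLib.gm_map]
      have hr : (PrinPart.nbhd f n).presheaf.germ _ y (mem_pr1 f n y hx) ((PrinPart.pr1 f n).app U r) =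
          (PrinPart.nbhd f n).presheaf.germ _ y (mem_pr1 f n y hx') ((PrinPart.pr1 f n).app U' r') := by
        rw [show (PrinPart.pr1 f n).app U' r' = (PrinPart.nbhd f n).presheaf.map
          (homOfLE ((PrinPart.pr1 f n).preimage_mono (hle'.trans inf_le_left))).op
          ((PrinPart.pr1 f n).app U r) from
          congr($((PrinPart.pr1 f n).naturality (homOfLE (hle'.trans inf_le_left)).op) r),
          TopCat.Presheaf.germ_res_apply]
      have hrX : X.presheaf.germ U _ hx r = X.presheaf.germ U' _ hx' r' :=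
        (TopCat.Presheaf.germ_res_apply X.presheaf _ _ _ _).symm
      suffices key : L' ((PrinPart.nbhd f n).presheaf.germ _ y (mem_pr1 f n y hx')
          ((PrinPart.pr1 f n).app U' r') •
            DevissLib.gm P y (mem_pr1 f n y hx') (pairFn f n U' e • dPs f n F U' t')) =
          X.presheaf.germ U' _ hx' r' •
            L' (DevissLib.gm P y (mem_pr1 f n y hx') (pairFn f n U' e • dPs f n F U' t')) by
        rw [hr, hrX]
        exact (congrArg (fun m : (DevissLib.St y).obj P => L' (((PrinPart.nbhd f n).presheaf.germ _ y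
          (mem_pr1 f n y hx')) ((PrinPart.pr1 f n).app U' r') • m)) h0).trans (key.trans
            (congrArg (fun m : (DevissLib.St y).obj P =>
              X.presheaf.germ U' _ hx' r' • L' m) h0.symm))
      clear h0 he
      induction e with
      | zero =>
        have h : DevissLib.gm P y (mem_pr1 f n y hx') (pairFn f n U' 0 • dPs f n F U' t') = 0 := by
          rw [map_zero, zero_smul, DevissLib.gm_zero]
        rw [h, smul_zero, map_zero, smul_zero]
      | add a b ha hb =>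
        have h : DevissLib.gm P y (mem_pr1 f n y hx') (pairFn f n U' (a + b) • dPs f n F U' t') =
            DevissLib.gm P y (mem_pr1 f n y hx') (pairFn f n U' a • dPs f n F U' t') +
            DevissLib.gm P y (mem_pr1 f n y hx') (pairFn f n U' b • dPs f n F U' t') := by
          rw [map_add, add_smul]
          exact map_add (P.presheaf.germ _ y _).hom _ _
        rw [h, smul_add, map_add, ha, hb, map_add, smul_add]
      | tmul a b =>
        rw [pairFn_tmul, mul_smul, ← dP_smul]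
        have e1 := hL U' hx' (r' * a) (b • t')
        have e2 := hL U' hx' a (b • t')
        rw [map_mul, mul_smul, mul_smul] at e1
        refine Eq.trans ?_ (e1.trans ((DevissLib.gm_smul G _ hx' r' _).trans (congrArg _ e2.symm)))
        exact congrArg L (DevissLib.gm_smul P y _ _ _).symm
  refine Eq.trans (congrArg L (DevissLib.gm_smul P y _ _ _)) ?_
  exact hQ (mem_pr1 f n y hx)

end Stalk

/-- An operator with vanishing alternating sums factors through `d^n`. -/
theorem exists_factor (hlin : SLinear f D) (hD : AltVanish n D) :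
    PrinPart.IsDiffOpLE f F G n D := by
  classical
  let P := (Scheme.Modules.pullback (PrinPart.pr2 f n)).obj F
  let Gs : TopCat.Sheaf AddCommGrpCat X := ⟨G.presheaf, G.isSheaf⟩
  choose L hL using fun y => exists_stalkMap f n y hlin hD
  let IsIm : ∀ U : X.Opens, Γ(P, PrinPart.pr1 f n ⁻¹ᵁ U) → Γ(G, U) → Prop := fun U z g =>
    ∀ (y : PrinPart.nbhd f n) (hx : PrinPart.pr2 f n y ∈ U),
      G.presheaf.germ U _ hx g = L y (P.presheaf.germ _ y (mem_pr1 f n y hx) z)
  have hunique : ∀ (U : X.Opens) z g g', IsIm U z g → IsIm U z g' → g = g' := by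
    intro U z g g' hg hg'
    refine TopCat.Presheaf.section_ext Gs U g g' fun x hx => ?_
    obtain ⟨y, rfl⟩ : ∃ y, PrinPart.pr2 f n y = x :=
      ⟨PrinPart.toNbhd f n x, by rw [← Scheme.Hom.comp_apply, PrinPart.toNbhd_pr2]; rfl⟩
    exact (hg y hx).trans (hg' y hx).symm
  have hres : ∀ (U U' : X.Opens) (hle : U' ≤ U) z g, IsIm U z g →
      IsIm U' (P.presheaf.map (homOfLE ((PrinPart.pr1 f n).preimage_mono hle)).op z)
        (G.presheaf.map (homOfLE hle).op g) := fun U U' hle z g hg y hx => by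
    rw [TopCat.Presheaf.germ_res_apply, TopCat.Presheaf.germ_res_apply]
    exact hg y (hle hx)
  have hgen : ∀ (U : X.Opens) (a : Γ(X, U)) (t : Γ(F, U)),
      IsIm U ((PrinPart.pr1 f n).app U a • dPs f n F U t) (a • (D.app (op U)).hom t) :=
    fun U a t y hx => (hL y U hx a t).symm
  -- values exist locally
  have hloc : ∀ (U : X.Opens) z (x : U), ∃ (U' : X.Opens) (hle : U' ≤ U) (g : Γ(G, U')), x.1 ∈ U' ∧
      IsIm U' (P.presheaf.map (homOfLE ((PrinPart.pr1 f n).preimage_mono hle)).op z) g := by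
    intro U z x
    let y := PrinPart.toNbhd f n x.1
    have hy1 : y ∈ PrinPart.pr1 f n ⁻¹ᵁ U := by
      change PrinPart.pr1 f n (PrinPart.toNbhd f n x.1) ∈ U
      rw [← Scheme.Hom.comp_apply, PrinPart.toNbhd_pr1]
      exact x.2
    let Q : ∀ W, Γ(P, W) → Prop := fun W z => ∀ (x : X), PrinPart.toNbhd f n x ∈ W →
      ∃ (U' : X.Opens) (hU' : PrinPart.pr1 f n ⁻¹ᵁ U' ≤ W) (g : Γ(G, U')), x ∈ U' ∧
        IsIm U' (P.presheaf.map (homOfLE hU').op z) g
    have hmem : ∀ (x : X) {U' : X.Opens}, x ∈ U' → PrinPart.toNbhd f n x ∈ PrinPart.pr1 f n ⁻¹ᵁ U' := by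
      intro x U' hx
      change PrinPart.pr1 f n (PrinPart.toNbhd f n x) ∈ U'
      rw [← Scheme.Hom.comp_apply, PrinPart.toNbhd_pr1]
      exact hx
    have hQ : Q _ z := by
      refine pullback_induction (PrinPart.pr2 f n) F Q ?_ ?_ ?_ ?_ ?_ _ z
      · intro W W' hle z hz x hx
        obtain ⟨U', hU', g, hxU', hg⟩ := hz x (hle hx)
        refine ⟨U' ⊓ PrinPart.toNbhd f n ⁻¹ᵁ W', ((PrinPart.pr1 f n).preimage_mono inf_le_right).trans
          (preimage_toNbhd f n W').le, G.presheaf.map (homOfLE inf_le_left).op g, ⟨hxU', hx⟩, ?_⟩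
        have := hres _ _ (inf_le_left : U' ⊓ PrinPart.toNbhd f n ⁻¹ᵁ W' ≤ U') _ g hg
        rw [OmegaSh.resM_resM] at this
        rw [OmegaSh.resM_resM]
        exact this
      · intro W z hz x hx
        obtain ⟨W', hW', hxW', hQ⟩ := hz _ hx
        obtain ⟨U', hU', g, hxU', hg⟩ := hQ x hxW'
        rw [OmegaSh.resM_resM] at hg
        exact ⟨U', hU'.trans hW', g, hxU', hg⟩
      · intro W x hx
        refine ⟨PrinPart.toNbhd f n ⁻¹ᵁ W, (preimage_toNbhd f n W).le, 0, hx, fun y hy => ?_⟩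
        rw [map_zero, map_zero, map_zero, map_zero]
      · intro W z z' hz hz' x hx
        obtain ⟨U₁, hU₁, g₁, hx₁, hg₁⟩ := hz x hx
        obtain ⟨U₂, hU₂, g₂, hx₂, hg₂⟩ := hz' x hx
        refine ⟨U₁ ⊓ U₂, ((PrinPart.pr1 f n).preimage_mono inf_le_left).trans hU₁,
          G.presheaf.map (homOfLE inf_le_left).op g₁ + G.presheaf.map (homOfLE inf_le_right).op g₂,
          ⟨hx₁, hx₂⟩, fun y hy => ?_⟩
        have e₁ := hres _ _ (inf_le_left : U₁ ⊓ U₂ ≤ U₁) _ g₁ hg₁ y hy
        have e₂ := hres _ _ (inf_le_right : U₁ ⊓ U₂ ≤ U₂) _ g₂ hg₂ y hy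
        rw [TopCat.Presheaf.germ_res_apply P.presheaf] at e₁ e₂
        rw [TopCat.Presheaf.germ_res_apply P.presheaf] at e₁ e₂
        rw [map_add, e₁, e₂, TopCat.Presheaf.germ_res_apply P.presheaf, map_add, map_add]
      · intro W U₀ hW c t x hx
        have hxU₀ : x ∈ U₀ := by
          have := hW hx
          change PrinPart.pr2 f n (PrinPart.toNbhd f n x) ∈ U₀ at this
          rwa [← Scheme.Hom.comp_apply, PrinPart.toNbhd_pr2] at this
        obtain ⟨U', hU', hxU', hle⟩ := exists_smallAffine f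
          (show x ∈ U₀ ⊓ PrinPart.toNbhd f n ⁻¹ᵁ W from ⟨hxU₀, hx⟩)
        have hW' : PrinPart.pr1 f n ⁻¹ᵁ U' ≤ W :=
          ((PrinPart.pr1 f n).preimage_mono (hle.trans inf_le_right)).trans (preimage_toNbhd f n W).le
        let t' := F.presheaf.map (homOfLE (hle.trans inf_le_left)).op t
        obtain ⟨e, he⟩ := pairFn_surjective f n hU'
          ((PrinPart.nbhd f n).presheaf.map (homOfLE hW').op c)
        refine ⟨U', hW', pairVal D U' t' e, hxU', ?_⟩
        have hz : P.presheaf.map (homOfLE hW').op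
            (c • P.presheaf.map (homOfLE hW).op (OmegaSh.pullSect (PrinPart.pr2 f n) F U₀ t)) =
            pairFn f n U' e • dPs f n F U' t' := by
          rw [he, Scheme.Modules.map_smul, OmegaSh.resM_resM, dPs, PrinPart.dP_apply,
            OmegaSh.pullSect_map, OmegaSh.resM_resM]
          rfl
        rw [hz]
        clear hz he
        induction e with
        | zero =>
          intro y hy
          rw [map_zero, map_zero, map_zero, zero_smul, map_zero, map_zero]
        | add a b ha hb =>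
          intro y hy
          rw [map_add, map_add, ha y hy, hb y hy, map_add, add_smul, map_add, map_add]
        | tmul a b =>
          rw [pairFn_tmul, mul_smul, ← dP_smul, pairVal_tmul]
          exact hgen U' a _
    obtain ⟨U', hU', g, hxU', hg⟩ := hQ x.1 hy1
    refine ⟨U' ⊓ U, inf_le_right, G.presheaf.map (homOfLE inf_le_left).op g, ⟨hxU', x.2⟩, ?_⟩
    have := hres _ _ (inf_le_left : U' ⊓ U ≤ U') _ g hg
    rw [OmegaSh.resM_resM] at this
    exact this
  have htotal : ∀ (U : X.Opens) z, ∃ g, IsIm U z g := by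
    intro U z
    choose U' hle g hxU' hg using hloc U z
    obtain ⟨s, hs, -⟩ := Gs.existsUnique_gluing' U' U (fun x => homOfLE (hle x))
      (fun x hx => Opens.mem_iSup.2 ⟨⟨x, hx⟩, hxU' _⟩) g (fun i j => by
        refine hunique (U' i ⊓ U' j) (P.presheaf.map
          (homOfLE ((PrinPart.pr1 f n).preimage_mono (inf_le_left.trans (hle i)))).op z) _ _ ?_ ?_
        · have := hres _ _ (inf_le_left : U' i ⊓ U' j ≤ U' i) _ _ (hg i)
          rw [OmegaSh.resM_resM] at this
          exact this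
        · have := hres _ _ (inf_le_right : U' i ⊓ U' j ≤ U' j) _ _ (hg j)
          rw [OmegaSh.resM_resM] at this
          exact this)
    refine ⟨s, fun y hx => ?_⟩
    let i : U := ⟨PrinPart.pr2 f n y, hx⟩
    have h1 := hg i y (hxU' i)
    rw [TopCat.Presheaf.germ_res_apply P.presheaf] at h1
    rw [← h1, ← hs i]
    exact (TopCat.Presheaf.germ_res_apply G.presheaf _ _ _ _).symm
  choose uv huv using htotal
  let φ : (PrinPart.PMod f n F).presheaf ⟶ G.presheaf :=
    { app := fun U => AddCommGrpCat.ofHom (AddMonoidHom.mk' (fun z => uv U.unop z) fun z z' =>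
        hunique U.unop (z + z' : Γ(P, PrinPart.pr1 f n ⁻¹ᵁ U.unop)) _ _ (huv U.unop _)
          fun y hx => (map_add (G.presheaf.germ _ _ hx).hom _ _).trans
            ((congrArg₂ (· + ·) (huv U.unop z y hx) (huv U.unop z' y hx)).trans
              ((map_add (L y) _ _).symm.trans (congrArg (L y)
                (map_add (P.presheaf.germ _ y (mem_pr1 f n y hx)).hom z z').symm))))
      naturality := fun U V i => by
        ext z
        exact hunique V.unop _ _ _ (huv V.unop _) (hres _ _ i.unop.le _ _ (huv U.unop z)) }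
  have hφ : ∀ (U : X.Opens) (r : Γ(X, U)) (z : Γ(P, PrinPart.pr1 f n ⁻¹ᵁ U)),
      uv U ((PrinPart.pr1 f n).app U r • z) = r • uv U z := by
    intro U r z
    refine hunique U _ _ _ (huv U _) fun y hx => ?_
    exact (germ_smulG f n y hx r (uv U z)).trans
      ((congrArg (fun m : (DevissLib.St (PrinPart.pr2 f n y)).obj G => X.presheaf.germ U _ hx r • m)
        (huv U z y hx)).trans (L_smul f n y hlin hD (L y) (hL y) hx r _).symm)
  refine ⟨⟨PresheafOfModules.homMk (M₁ := (PrinPart.PMod f n F).val) (M₂ := G.val) φ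
    (fun U r z => hφ U.unop r z)⟩, fun U t => ?_⟩
  refine (hunique U (dPs f n F U t) _ _ ?_ (huv U _))
  have := hgen U 1 t
  rwa [map_one, one_smul, one_smul] at this

end PrinPartLib
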