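import Groth.Agent.PrinPartLib.BaseChange
import Groth.Agent.PrinPartLib.Affine
import Groth.Agent.PrinPartLib.Ops
import Groth.Agent.S12131
import Groth.Agent.KFlatLib.QCohPull
import Groth.Agent.CohCmpLib.Bc0

/-!
# Derivations extend to base changes
-/

set_option autoImplicit false

universe u

open CategoryTheory CategoryTheory.Limits AlgebraicGeometry TopologicalSpace Opposite

namespace PrinPartLib


theorem pullUnit_dn {X S : Scheme.{u}} (f : X ⟶ S) (n : ℕ) (U : X.Opens) (b : Γ(X, U)) :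
    (KFlatLib.pullUnitIso (PrinPart.pr2 f n)).hom.app (PrinPart.pr1 f n ⁻¹ᵁ U) (PrinPart.dn f n U b) =
      d2 f n U b := by
  let p := PrinPart.pr2 f n
  have hle := (PrinPart.preimage_pr1 f n U).le
  refine (congr($((KFlatLib.pullUnitIso p).hom.mapPresheaf.naturality (homOfLE hle).op)
    (KFlatLib.puSec p (OmegaSh.strSect X U b)))).trans ?_
  exact congrArg ((PrinPart.nbhd f n).presheaf.map (homOfLE hle).op)
    (CohCmpLib.pullUnitIso_puSec p (OmegaSh.strSect X U b))


variable {X S X' S' : Scheme.{u}} (f : X ⟶ S) (g : S' ⟶ S) (u : X' ⟶ X) (f' : X' ⟶ S')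

/-- The canonical map of principal parts of a base change is an isomorphism. -/
theorem exists_pMap (n : ℕ) (hsq : IsPullback u f' f g) :
    ∃ φ : (Scheme.Modules.pullback u).obj (PrinPart.P f n) ⟶ PrinPart.P f' n,
      IsIso φ ∧ PrinPart.IsPMap f f' u n φ := by
  obtain ⟨v, hpb, hv2⟩ := PrinPartLib.exists_nbhd_isPullback f f' u g n hsq
  let p := PrinPart.pr2 f n
  let p' := PrinPart.pr2 f' n
  haveI := PrinPartLib.isAffineHom_pr1 f n
  haveI : Coh.IsQCoh (Coh.structureModule X) := QCohLib.isQCoh_unit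
  let P := (Scheme.Modules.pullback p).obj (Coh.structureModule X)
  haveI : Coh.IsQCoh P := KFlatLib.isQCoh_pullback p _
  let bc := CohBC.bc0 (PrinPart.pr1 f n) u (PrinPart.pr1 f' n) v hpb.w P
  have hbc : IsIso bc := Groth.Agent.S12131.result (PrinPart.pr1 f n) u v (PrinPart.pr1 f' n) hpb P
  let ε : (Scheme.Modules.pullback v).obj P ⟶ (Scheme.Modules.pullback p').obj (Coh.structureModule X') :=
    (Scheme.Modules.pullback v).map (KFlatLib.pullUnitIso p).hom ≫ (KFlatLib.pullUnitIso v).hom ≫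
      (KFlatLib.pullUnitIso p').inv
  let Ψ : (Scheme.Modules.pullback u).obj (PrinPart.P f n) ⟶ PrinPart.P f' n :=
    bc ≫ (Scheme.Modules.pushforward (PrinPart.pr1 f' n)).map ε
  have hε0 : IsIso ε := inferInstanceAs (IsIso ((Scheme.Modules.pullback v).map (KFlatLib.pullUnitIso p).hom ≫
    (KFlatLib.pullUnitIso v).hom ≫ (KFlatLib.pullUnitIso p').inv))
  have hε : IsIso ((Scheme.Modules.pushforward (PrinPart.pr1 f' n)).map ε) := @Functor.map_isIso _ _ _ _ _ _ _ ε hε0
  refine ⟨Ψ, @IsIso.comp_isIso _ _ _ _ _ _ _ hbc hε, fun U b => ?_⟩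
  have h1 : bc.app (u ⁻¹ᵁ U) (KFlatLib.puSec u (PrinPart.dn f n U b)) =
      KFlatLib.puSecLE v P (CohCmp.sqLE (PrinPart.pr1 f n) u (PrinPart.pr1 f' n) v hpb.w U)
        (PrinPart.dn f n U b) := CohCmpLib.bc0_puSec hpb.w P _
  refine (congrArg (ε.app (PrinPart.pr1 f' n ⁻¹ᵁ (u ⁻¹ᵁ U))) h1).trans (Eq.symm ?_)
  have hle := CohCmp.sqLE (PrinPart.pr1 f n) u (PrinPart.pr1 f' n) v hpb.w U
  haveI : IsIso ((KFlatLib.pullUnitIso p').hom.mapPresheaf.app (op (PrinPart.pr1 f' n ⁻¹ᵁ (u ⁻¹ᵁ U)))) := by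
    haveI : IsIso (KFlatLib.pullUnitIso p').hom.mapPresheaf :=
      inferInstanceAs (IsIso ((Scheme.Modules.toPresheaf _).map (KFlatLib.pullUnitIso p').hom))
    infer_instance
  apply (ConcreteCategory.bijective_of_isIso ((KFlatLib.pullUnitIso p').hom.mapPresheaf.app
    (op (PrinPart.pr1 f' n ⁻¹ᵁ (u ⁻¹ᵁ U))))).1
  refine (pullUnit_dn f' n (u ⁻¹ᵁ U) (u.app U b)).trans ?_
  show _ = (ε ≫ (KFlatLib.pullUnitIso p').hom).app _ (KFlatLib.puSecLE v P hle (PrinPart.dn f n U b))
  simp only [ε, Category.assoc, Iso.inv_hom_id, Category.comp_id]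
  let h := (Scheme.Modules.pullback v).map (KFlatLib.pullUnitIso p).hom ≫ (KFlatLib.pullUnitIso v).hom
  have h2 : h.app (v ⁻¹ᵁ (PrinPart.pr1 f n ⁻¹ᵁ U)) (KFlatLib.puSec v (PrinPart.dn f n U b)) =
      v.app (PrinPart.pr1 f n ⁻¹ᵁ U) (PrinPartLib.d2 f n U b) := by
    refine (congrArg ((KFlatLib.pullUnitIso v).hom.app _)
      (KFlatLib.puSec_natural v (KFlatLib.pullUnitIso p).hom (U := PrinPart.pr1 f n ⁻¹ᵁ U)
        (PrinPart.dn f n U b))).trans ?_
    refine (CohCmpLib.pullUnitIso_puSec v _).trans ?_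
    exact congrArg (v.app _) (pullUnit_dn f n U b)
  refine Eq.trans ?_ ((congrArg ((PrinPart.nbhd f' n).presheaf.map (homOfLE hle).op) h2).symm.trans
    (congr($(h.mapPresheaf.naturality (homOfLE hle).op) (KFlatLib.puSec v (PrinPart.dn f n U b)))).symm)
  have e : u.app U ≫ PrinPartLib.d2 f' n (u ⁻¹ᵁ U) = PrinPartLib.d2 f n U ≫
      v.app (PrinPart.pr1 f n ⁻¹ᵁ U) ≫ (PrinPart.nbhd f' n).presheaf.map (homOfLE hle).op := by
    simp only [PrinPartLib.d2, Scheme.Hom.app_eq_appLE, Scheme.Hom.appLE_map, Scheme.Hom.appLE_comp_appLE, hv2]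
  exact congr($e b)

/-- Alternating sums of order one. -/
theorem altVanish_one {F G : X.Modules} (D : F.presheaf ⟶ G.presheaf)
    (h : ∀ (U : X.Opens) (a b : Γ(X, U)) (t : Γ(F, U)),
      D.app (op U) ((a * b) • t) - a • D.app (op U) (b • t) - b • D.app (op U) (a • t) +
        (a * b) • D.app (op U) t = 0) :
    AltVanish 1 D := by
  intro U a t
  rw [show (Finset.univ : Finset (Finset (Fin 2))) = {∅, {0}, {1}, {0, 1}} by decide,
    Finset.sum_insert (by decide), Finset.sum_insert (by decide), Finset.sum_insert (by decide),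
    Finset.sum_singleton]
  simp only [show (∅ : Finset (Fin 2))ᶜ = {0, 1} by decide, show ({0} : Finset (Fin 2))ᶜ = {1} by decide,
    show ({1} : Finset (Fin 2))ᶜ = {0} by decide, show ({0, 1} : Finset (Fin 2))ᶜ = ∅ by decide,
    Finset.prod_empty, Finset.prod_singleton, Finset.prod_pair (show (0 : Fin 2) ≠ 1 by decide),
    Finset.card_empty, Finset.card_singleton, Finset.card_pair (show (0 : Fin 2) ≠ 1 by decide),
    pow_zero, pow_one, one_smul, neg_smul, show (-1 : ℤ) ^ 2 = 1 by norm_num]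
  rw [← h U (a 0) (a 1) t]
  abel

/-- A derivation into a pushforward extends to the base change. -/
theorem exists_derExt (hsq : IsPullback u f' f g) {M : X'.Modules}
    (D : OmegaSh.Der f ((Scheme.Modules.pushforward u).obj M)) :
    ∃ D' : OmegaSh.Der f' M, ∀ (U : X.Opens) (b : Γ(X, U)),
      D'.app (u ⁻¹ᵁ U) (u.app U b) = D.app U b := by
  obtain ⟨φ, hφi, hφ⟩ := exists_pMap f g u f' 1 hsq
  haveI := hφi
  let O := Coh.structureModule X
  let uM := (Scheme.Modules.pushforward u).obj M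
  let E : O.presheaf ⟶ uM.presheaf :=
    { app := fun U => AddCommGrpCat.ofHom ((D.app U.unop).comp (OmegaSh.fnSect X U.unop))
      naturality := fun U V i => by
        ext s
        exact D.d_map i s }
  have hEval : ∀ (U : X.Opens) (s : Γ(X, U)), E.app (op U) (OmegaSh.strSect X U s) = D.app U s :=
    fun U s => rfl
  have hL : ∀ (U : X.Opens) (a b : Γ(X, U)), D.app U (a * b) = a • D.app U b + b • D.app U a :=
    fun U a b => D.d_mul (X := op U) a b
  have hmul : ∀ (U : X.Opens) (a b : Γ(X, U)), a • OmegaSh.strSect X U b = OmegaSh.strSect X U (a * b) :=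
    fun U a b => rfl
  have hmap : ∀ {U W : X.Opens} (h : W ≤ U) (a : Γ(X, U)),
      D.app W (X.presheaf.map (homOfLE h).op a) = uM.presheaf.map (homOfLE h).op (D.app U a) :=
    fun h a => D.d_map (homOfLE h).op a
  obtain ⟨w₀, hw₀⟩ := (isDiffOpLE_iff f (n := 1) (D := E)).2 ⟨fun V s U hU t => by
      obtain ⟨t, rfl⟩ : ∃ t', OmegaSh.strSect X U t' = t := ⟨OmegaSh.fnSect X U t, rfl⟩
      rw [hmul, hEval, hEval, hL, hmap hU, show D.app (f ⁻¹ᵁ V) (f.app V s) = 0 from D.d_app (X := op V) s,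
        map_zero, smul_zero, add_zero],
    altVanish_one E fun U a b t => by
      obtain ⟨t, rfl⟩ : ∃ t', OmegaSh.strSect X U t' = t := ⟨OmegaSh.fnSect X U t, rfl⟩
      simp only [hmul, hEval, hL, smul_add, ← mul_smul]
      rw [mul_comm t a, mul_comm t b, mul_comm b a]
      abel⟩
  let e := (Scheme.Modules.pullbackPushforwardAdjunction u).homEquiv (PrinPart.P f 1) M
  let w : PrinPart.P f' 1 ⟶ M := inv φ ≫ e.symm w₀
  have hw : ∀ (U : X.Opens) (b : Γ(X, U)), w.app (u ⁻¹ᵁ U) (PrinPart.dn f' 1 (u ⁻¹ᵁ U) (u.app U b)) =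
      D.app U b := by
    intro U b
    rw [← hφ U b]
    refine (congr($(congrArg (fun k => Scheme.Modules.Hom.app k (u ⁻¹ᵁ U))
      (IsIso.hom_inv_id_assoc φ (e.symm w₀))) (OmegaSh.pullSect u (PrinPart.P f 1) U (PrinPart.dn f 1 U b)))).trans ?_
    have h1 := congr(Scheme.Modules.Hom.app $(e.apply_symm_apply w₀) U (PrinPart.dn f 1 U b))
    rw [show e (e.symm w₀) = _ from Adjunction.homEquiv_unit _ _ _ _] at h1
    exact h1.trans ((hw₀ U (OmegaSh.strSect X U b)).symm.trans (hEval U b))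
  let E' : (Coh.structureModule X').presheaf ⟶ M.presheaf := PrinPart.dPHom f' 1 _ ≫ w.mapPresheaf
  have hE' : PrinPart.IsDiffOpLE f' (Coh.structureModule X') M 1 E' := ⟨w, fun U t => rfl⟩
  let D₀ : ∀ W : X'.Opens, Γ(X', W) →+ Γ(M, W) := fun W => (w.app W).hom.comp (PrinPart.dn f' 1 W)
  have hres : ∀ {U W : X'.Opens} (i : W ≤ U) (a : Γ(X', U)),
      D₀ W (X'.presheaf.map (homOfLE i).op a) = M.presheaf.map (homOfLE i).op (D₀ U a) := fun i a =>
    congr($(E'.naturality (homOfLE i).op) (OmegaSh.strSect X' _ a))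
  have hone : ∀ W : X'.Opens, D₀ W 1 = 0 := by
    intro W
    have h1 : D₀ (u ⁻¹ᵁ ⊤) 1 = 0 := by
      have := hw ⊤ 1
      rw [map_one] at this
      refine this.trans ?_
      have h := hL ⊤ 1 1
      rw [one_mul, one_smul] at h
      exact left_eq_add.1 h
    rw [← map_one (X'.presheaf.map (homOfLE (le_top : W ≤ u ⁻¹ᵁ ⊤)).op).hom]
    exact (hres _ _).trans ((congrArg _ h1).trans (map_zero _))
  have hD₀ : ∀ (U : X'.Opens) (a b : Γ(X', U)), D₀ U (a * b) = a • D₀ U b + b • D₀ U a := by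
    intro U a b
    have h := altVanish_of_isDiffOpLE f' hE' U ![a, b] (OmegaSh.strSect X' U 1)
    rw [show (Finset.univ : Finset (Finset (Fin 2))) = {∅, {0}, {1}, {0, 1}} by decide] at h
    rw [Finset.sum_insert (by decide), Finset.sum_insert (by decide), Finset.sum_insert (by decide),
      Finset.sum_singleton] at h
    have e' : ∀ c : Γ(X', U), c • OmegaSh.strSect X' U 1 = OmegaSh.strSect X' U c := fun c => mul_one c
    have h0 : ∀ c : Γ(X', U), E'.app (op U) (OmegaSh.strSect X' U c) = D₀ U c := fun c => rfl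
    simp only [show (∅ : Finset (Fin 2))ᶜ = {0, 1} by decide, show ({0} : Finset (Fin 2))ᶜ = {1} by decide,
      show ({1} : Finset (Fin 2))ᶜ = {0} by decide, show ({0, 1} : Finset (Fin 2))ᶜ = ∅ by decide,
      Finset.prod_empty, Finset.prod_singleton, Finset.prod_pair (show (0 : Fin 2) ≠ 1 by decide),
      Finset.card_empty, Finset.card_singleton, Finset.card_pair (show (0 : Fin 2) ≠ 1 by decide),
      Matrix.cons_val_zero, Matrix.cons_val_one, pow_zero, pow_one, one_smul, neg_smul, e', h0, hone,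
      smul_zero, show (-1 : ℤ) ^ 2 = 1 by norm_num] at h
    rw [← sub_eq_zero]
    refine Eq.trans ?_ h
    abel
  let D' : OmegaSh.Der f' M :=
    { d := fun {U} => D₀ U.unop
      d_mul := fun {U} a b => hD₀ U.unop a b
      d_map := fun {U V} i a => hres i.unop.le a
      d_app := fun {V} s => by
        have h := slinear_of_isDiffOpLE f' hE' V.unop s (f' ⁻¹ᵁ V.unop) le_rfl (OmegaSh.strSect X' _ 1)
        rw [show (homOfLE (le_refl (f' ⁻¹ᵁ V.unop))).op = 𝟙 _ from Subsingleton.elim _ _,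
          X'.presheaf.map_id] at h
        have e' : ∀ c : Γ(X', f' ⁻¹ᵁ V.unop), c • OmegaSh.strSect X' _ 1 = OmegaSh.strSect X' _ c :=
          fun c => mul_one c
        refine ((congrArg (E'.app _) (e' _).symm).trans h).trans ?_
        exact (congrArg (_ • ·) (hone _)).trans (smul_zero _) }
  exact ⟨D', fun U b => hw U b⟩

end PrinPartLib
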