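import Groth.Agent.PrinPartLib.Proj
import Groth.Agent.S1178
import Groth.Agent.RichLib.ModFlatGlobal
import Groth.Agent.AlgSpLib.Sep

/-!
# Finite presentation of principal parts
-/

set_option autoImplicit false

universe u

open CategoryTheory CategoryTheory.Limits AlgebraicGeometry TopologicalSpace Opposite

namespace PrinPartLib

/-- A subscheme cut out by finitely generated ideals is locally of finite presentation. -/
theorem lfp_subschemeι {X : Scheme.{u}} (I : X.IdealSheafData) (h : ∀ U : X.affineOpens, (I.ideal U).FG) :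
    LocallyOfFinitePresentation I.subschemeι := by
  refine IsZariskiLocalAtSource.of_openCover I.subschemeCover.openCover fun U => ?_
  show LocallyOfFinitePresentation (I.subschemeCover.f U ≫ I.subschemeι)
  rw [Scheme.IdealSheafData.subschemeCover_map_subschemeι, Scheme.IdealSheafData.glueDataObjι_ι]
  haveI : IsOpenImmersion U.2.fromSpec := IsAffineOpen.isOpenImmersion_fromSpec U.2
  have hq : LocallyOfFinitePresentation (Spec.map (CommRingCat.ofHom (Ideal.Quotient.mk (I.ideal U)))) := by
    rw [HasRingHomProperty.Spec_iff (P := @LocallyOfFinitePresentation)]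
    exact RingHom.FinitePresentation.of_surjective _ Ideal.Quotient.mk_surjective
      ((Ideal.mk_ker (I := I.ideal U)).symm ▸ h U)
  haveI : LocallyOfFinitePresentation U.2.fromSpec := locallyOfFinitePresentation_of_isOpenImmersion _
  exact @locallyOfFinitePresentation_comp _ _ _ _ _ hq this

/-- The kernel of a finitely presented closed immersion is finitely generated. -/
theorem fg_ker {X Y : Scheme.{u}} (i : Y ⟶ X) [IsClosedImmersion i] [LocallyOfFinitePresentation i]
    (U : X.affineOpens) : (i.ker.ideal U).FG := by
  rw [Scheme.Hom.ker_apply]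
  have h6 : (i.app U.1).hom.FinitePresentation := by
    have := HasRingHomProperty.appLE (P := @LocallyOfFinitePresentation) (f := i) inferInstance U
      ⟨_, U.2.preimage i⟩ le_rfl
    rwa [← Scheme.Hom.app_eq_appLE] at this
  letI : Algebra Γ(X, U.1) Γ(Y, i ⁻¹ᵁ U.1) := (i.app U.1).hom.toAlgebra
  haveI : Algebra.FinitePresentation Γ(X, U.1) Γ(Y, i ⁻¹ᵁ U.1) := h6
  have hs : Function.Surjective (Algebra.ofId Γ(X, U.1) Γ(Y, i ⁻¹ᵁ U.1)) :=
    Scheme.Hom.app_surjective i U.1 U.2
  exact Algebra.FinitePresentation.ker_fG_of_surjective _ hs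

variable {X S : Scheme.{u}} (f : X ⟶ S) (n : ℕ)

theorem lfp_pr1 [LocallyOfFinitePresentation f] : LocallyOfFinitePresentation (PrinPart.pr1 f n) := by
  haveI : LocallyOfFinitePresentation (pullback.diagonal f) := AlgSpLib.lfp_diagonal f
  let d := PrinPart.diagCl f
  haveI : LocallyOfFinitePresentation d := by
    haveI : LocallyOfFinitePresentation (d ≫ (pullback.diagonal f).coborderRange.ι) := by
      simp only [d, PrinPart.diagCl, Scheme.Hom.liftCoborder_ι]
      infer_instance
    exact AlgSpLib.lfp_of_comp_lft d (pullback.diagonal f).coborderRange.ι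
  haveI : LocallyOfFinitePresentation (PrinPart.infNbhdι d n) :=
    lfp_subschemeι _ fun U => by
      rw [Scheme.IdealSheafData.ideal_pow]
      exact (fg_ker d U).pow
  show LocallyOfFinitePresentation
    ((PrinPart.infNbhdι d n ≫ (pullback.diagonal f).coborderRange.ι) ≫ pullback.fst f f)
  infer_instance

theorem isFP_PMod [LocallyOfFinitePresentation f] (F : X.Modules) (hF : CohB1.IsFP F) :
    CohB1.IsFP (PrinPart.PMod f n F) := by
  haveI : IsFinite (PrinPart.pr1 f n) := isFinite_pr1 f n
  haveI : LocallyOfFinitePresentation (PrinPart.pr1 f n) := lfp_pr1 f n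
  have h : CohB1.IsFP ((Scheme.Modules.pullback (PrinPart.pr2 f n)).obj F) :=
    RichLib.ModFlat.isFP_pullback _ hF
  haveI : ((Scheme.Modules.pullback (PrinPart.pr2 f n)).obj F).IsQuasicoherent := by
    haveI := h
    infer_instance
  exact (Groth.Agent.S1178.result (PrinPart.pr1 f n) _).1 h

end PrinPartLib
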