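import Groth.Agent.PrinPartLib.Chart
import Groth.Agent.KFlatLib.AffinePull
import Groth.Agent.DevissLib.Stalk

/-!
# Principal parts are generated by the values of `d^n`
-/

set_option autoImplicit false

universe u

open CategoryTheory CategoryTheory.Limits AlgebraicGeometry TopologicalSpace Opposite
open scoped TensorProduct

namespace PrinPartLib

/-- Induction for sections of a pullback: a local property of sections, stable under sums, which holds
for multiples of pulled back sections holds for all sections. -/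
theorem pullback_induction {N X : Scheme.{u}} (p : N ⟶ X) (F : X.Modules)
    (Q : ∀ W : N.Opens, Γ((Scheme.Modules.pullback p).obj F, W) → Prop)
    (hres : ∀ (W W' : N.Opens) (h : W' ≤ W) z, Q W z →
      Q W' (((Scheme.Modules.pullback p).obj F).presheaf.map (homOfLE h).op z))
    (hloc : ∀ (W : N.Opens) z, (∀ x ∈ W, ∃ (W' : N.Opens) (h : W' ≤ W), x ∈ W' ∧
      Q W' (((Scheme.Modules.pullback p).obj F).presheaf.map (homOfLE h).op z)) → Q W z)
    (hzero : ∀ W, Q W 0) (hadd : ∀ W z z', Q W z → Q W z' → Q W (z + z'))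
    (hgen : ∀ (W : N.Opens) (U : X.Opens) (h : W ≤ p ⁻¹ᵁ U) (c : Γ(N, W)) (t : Γ(F, U)),
      Q W (c • ((Scheme.Modules.pullback p).obj F).presheaf.map (homOfLE h).op (OmegaSh.pullSect p F U t)))
    (W : N.Opens) (z : Γ((Scheme.Modules.pullback p).obj F, W)) : Q W z := by
  let P := (Scheme.Modules.pullback p).obj F
  refine hloc W z fun x hx => ?_
  suffices H : ∀ a : (DevissLib.St x).obj P, ∃ (W₁ : N.Opens) (hx₁ : x ∈ W₁) (z₁ : Γ(P, W₁)),
      Q W₁ z₁ ∧ DevissLib.gm P x hx₁ z₁ = a by
    obtain ⟨W₁, hx₁, z₁, hQ, he⟩ := H (DevissLib.gm P x hx z)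
    obtain ⟨O, hxO, i₁, i₂, hO⟩ := TopCat.Presheaf.germ_eq P.presheaf x hx₁ hx z₁ z he
    refine ⟨O, i₂.le, hxO, ?_⟩
    have := hres W₁ O i₁.le z₁ hQ
    rwa [show (homOfLE i₂.le) = i₂ from Subsingleton.elim _ _, ← hO,
      show i₁ = homOfLE i₁.le from Subsingleton.elim _ _]
  intro a
  letI := (p.stalkMap x).hom.toAlgebra
  let θ := (KFlatLib.stalkPullIso p x).inv.app F
  have hθ : Function.Surjective θ.hom := (ConcreteCategory.bijective_of_isIso θ).2
  obtain ⟨w, hw⟩ := hθ a
  subst hw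
  induction w using TensorProduct.induction_on with
  | zero =>
    refine ⟨⊤, trivial, 0, hzero _, ?_⟩
    exact (DevissLib.gm_zero P x _).trans (map_zero θ.hom).symm
  | tmul c m =>
    obtain ⟨Wc, hxc, c', rfl⟩ := N.presheaf.exists_germ_eq (x := x) c
    obtain ⟨U, hU, t, rfl⟩ := DevissLib.exists_gm_eq F (p x) m
    refine ⟨Wc ⊓ p ⁻¹ᵁ U, ⟨hxc, hU⟩,
      (N.presheaf.map (homOfLE inf_le_left).op c') •
        P.presheaf.map (homOfLE inf_le_right).op (OmegaSh.pullSect p F U t), hgen _ _ _ _ _, ?_⟩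
    rw [DevissLib.gm_smul, DevissLib.gm_map, TopCat.Presheaf.germ_res_apply]
    have h1 := KFlatLib.stalkPullInv_germ p F x hU t
    have h2 : N.presheaf.germ Wc x hxc c' ⊗ₜ[X.presheaf.stalk (p x)] DevissLib.gm F (p x) hU t =
        N.presheaf.germ Wc x hxc c' •
          ((1 : N.presheaf.stalk x) ⊗ₜ[X.presheaf.stalk (p x)] DevissLib.gm F (p x) hU t) := by
      rw [TensorProduct.smul_tmul', smul_eq_mul, mul_one]
    refine Eq.trans ?_ ((congrArg θ.hom h2).trans (θ.hom.map_smul _ _)).symm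
    exact congrArg (N.presheaf.germ Wc x hxc c' • ·) h1.symm
  | add w w' h h' =>
    obtain ⟨W₁, hx₁, z₁, hQ₁, he₁⟩ := h
    obtain ⟨W₂, hx₂, z₂, hQ₂, he₂⟩ := h'
    refine ⟨W₁ ⊓ W₂, ⟨hx₁, hx₂⟩, _, hadd _ _ _ (hres _ _ inf_le_left _ hQ₁) (hres _ _ inf_le_right _ hQ₂), ?_⟩
    refine ((P.presheaf.germ (W₁ ⊓ W₂) x ⟨hx₁, hx₂⟩).hom.map_add _ _).trans ?_
    exact ((congrArg₂ (· + ·) ((DevissLib.gm_map P _ x _ z₁).trans he₁)
      ((DevissLib.gm_map P _ x _ z₂).trans he₂))).trans (θ.hom.map_add _ _).symm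

variable {X S : Scheme.{u}} (f : X ⟶ S) (n : ℕ)

/-- Over a small affine the functions on the neighbourhood are generated by the two projections. -/
theorem closure_nbhd {U : X.Opens} (hU : SmallAffine f U) :
    Subring.closure (Set.range ((PrinPart.pr1 f n).app U) ∪
      Set.range ((PrinPart.pr2 f n).appLE U (PrinPart.pr1 f n ⁻¹ᵁ U)
        (PrinPart.preimage_pr1 f n U).le)) = ⊤ := by
  obtain ⟨hUa, V, hV, hUV⟩ := hU
  let ι := PrinPart.nbhdι f n
  let ρ := ι.appLE (box f U) (PrinPart.pr1 f n ⁻¹ᵁ U) (preimage_box f n U).ge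
  have hρ : Function.Surjective ρ := by
    have : IsIso ((PrinPart.nbhd f n).presheaf.map (homOfLE (preimage_box f n U).ge).op) := by
      haveI : IsIso (homOfLE (preimage_box f n U).ge) :=
        ⟨homOfLE (preimage_box f n U).le, Subsingleton.elim _ _, Subsingleton.elim _ _⟩
      infer_instance
    exact (ConcreteCategory.bijective_of_isIso
      ((PrinPart.nbhd f n).presheaf.map (homOfLE (preimage_box f n U).ge).op)).2.comp
        (surjective_app_box f n hUV hUa hV)
  refine eq_top_iff.2 fun x _ => ?_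
  obtain ⟨y, rfl⟩ := hρ x
  have hy : y ∈ Subring.closure (Set.range ((pullback.fst f f).appLE U (box f U) inf_le_left) ∪
      Set.range ((pullback.snd f f).appLE U (box f U) inf_le_right)) :=
    (closure_box f hUV hUa hV).ge trivial
  have h : ρ y ∈ (Subring.closure (Set.range ((pullback.fst f f).appLE U (box f U) inf_le_left) ∪
      Set.range ((pullback.snd f f).appLE U (box f U) inf_le_right))).map ρ.hom := ⟨y, hy, rfl⟩
  rw [RingHom.map_closure] at h
  refine Subring.closure_mono ?_ h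
  rw [Set.image_union]
  refine Set.union_subset_union ?_ ?_
  · rintro _ ⟨_, ⟨b, rfl⟩, rfl⟩
    refine ⟨b, ?_⟩
    have h1 : (pullback.fst f f).appLE U (box f U) inf_le_left ≫ ρ =
        (PrinPart.pr1 f n).appLE U (PrinPart.pr1 f n ⁻¹ᵁ U) le_rfl := by
      rw [Scheme.Hom.appLE_comp_appLE]; rfl
    rw [← Scheme.Hom.app_eq_appLE] at h1
    exact (congr($h1 b)).symm
  · rintro _ ⟨_, ⟨b, rfl⟩, rfl⟩
    refine ⟨b, ?_⟩
    have h1 : (pullback.snd f f).appLE U (box f U) inf_le_right ≫ ρ =
        (PrinPart.pr2 f n).appLE U (PrinPart.pr1 f n ⁻¹ᵁ U) (PrinPart.preimage_pr1 f n U).le := by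
      rw [Scheme.Hom.appLE_comp_appLE]; rfl
    exact (congr($h1 b)).symm

theorem isAffineOpen_preimage {U : X.Opens} (hU : SmallAffine f U) :
    IsAffineOpen (PrinPart.pr1 f n ⁻¹ᵁ U) := by
  obtain ⟨hUa, V, hV, hUV⟩ := hU
  let j := (pullback.diagonal f).coborderRange.ι
  let i := PrinPart.infNbhdι (PrinPart.diagCl f) n
  haveI : IsClosedImmersion i := by
    show IsClosedImmersion (Scheme.IdealSheafData.subschemeι _)
    infer_instance
  have hle : box f U ≤ j.opensRange := by
    rw [Scheme.Opens.opensRange_ι]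
    exact box_le_coborderRange f hUV hUa hV
  have haff : IsAffineOpen (j ⁻¹ᵁ box f U) :=
    (isAffineOpen_box f hUV hUa hV).preimage_of_isOpenImmersion j hle
  rw [← preimage_box]
  exact haff.preimage i

/-- `d^n t` as a section of the pullback. -/
noncomputable abbrev dPs (F : X.Modules) (U : X.Opens) (t : Γ(F, U)) :
    Γ((Scheme.Modules.pullback (PrinPart.pr2 f n)).obj F, PrinPart.pr1 f n ⁻¹ᵁ U) :=
  PrinPart.dP f n F U t

/-- `d^n` is semilinear through the second projection. -/
theorem dP_smul (F : X.Modules) (U : X.Opens) (b : Γ(X, U)) (t : Γ(F, U)) :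
    dPs f n F U (b • t) = ((PrinPart.pr2 f n).appLE U (PrinPart.pr1 f n ⁻¹ᵁ U)
      (PrinPart.preimage_pr1 f n U).le b) • dPs f n F U t :=
  KFlatLib.puSecLE_smul (PrinPart.pr2 f n) F (PrinPart.preimage_pr1 f n U).le b t

theorem app_smul_dP {F G : X.Modules} {a b : PrinPart.PMod f n F ⟶ G}
    (h : ∀ (U : X.Opens) (t : Γ(F, U)), a.app U (PrinPart.dP f n F U t) = b.app U (PrinPart.dP f n F U t))
    {U : X.Opens} (hU : SmallAffine f U) (e : Γ(PrinPart.nbhd f n, PrinPart.pr1 f n ⁻¹ᵁ U))
    (t : Γ(F, U)) :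
    a.app U (e • dPs f n F U t) = b.app U (e • dPs f n F U t) := by
  let Good : Γ(PrinPart.nbhd f n, PrinPart.pr1 f n ⁻¹ᵁ U) → Prop := fun e =>
    ∀ t, a.app U (e • dPs f n F U t) = b.app U (e • dPs f n F U t)
  suffices H : ∀ e', Good e' → Good (e * e') by
    have := H 1 (fun t => by simp only [one_smul]; exact h U t) t
    rwa [mul_one] at this
  have he : e ∈ Subring.closure (Set.range ((PrinPart.pr1 f n).app U) ∪
      Set.range ((PrinPart.pr2 f n).appLE U (PrinPart.pr1 f n ⁻¹ᵁ U)
        (PrinPart.preimage_pr1 f n U).le)) := (closure_nbhd f n hU).ge trivial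
  induction he using Subring.closure_induction with
  | mem x hx =>
    intro e' he' t
    rcases hx with ⟨r, rfl⟩ | ⟨r, rfl⟩
    · simp only [mul_smul]
      exact (a.app_smul r _).trans ((congrArg (r • ·) (he' t)).trans (b.app_smul r _).symm)
    · rw [mul_comm, mul_smul, ← dP_smul]
      exact he' _
  | zero =>
    intro e' _ t
    simp only [zero_mul, zero_smul]
    exact (map_zero (a.app U).hom).trans (map_zero (b.app U).hom).symm
  | one =>
    intro e' he'
    rwa [one_mul]
  | add x y _ _ hx hy =>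
    intro e' he' t
    simp only [add_mul, add_smul]
    exact (map_add (a.app U).hom _ _).trans
      ((congrArg₂ (· + ·) (hx e' he' t) (hy e' he' t)).trans (map_add (b.app U).hom _ _).symm)
  | neg x _ hx =>
    intro e' he' t
    simp only [neg_mul, neg_smul]
    exact (map_neg (a.app U).hom _).trans
      ((congrArg (- ·) (hx e' he' t)).trans (map_neg (b.app U).hom _).symm)
  | mul x y _ _ hx hy =>
    intro e' he'
    rw [mul_assoc]
    exact hx _ (hy _ he')

/-- Linear maps out of `P^n(F)` are determined on the `d^n t`. -/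
theorem hom_ext {F G : X.Modules} {a b : PrinPart.PMod f n F ⟶ G}
    (h : ∀ (U : X.Opens) (t : Γ(F, U)), a.app U (PrinPart.dP f n F U t) = b.app U (PrinPart.dP f n F U t)) :
    a = b := by
  let P := (Scheme.Modules.pullback (PrinPart.pr2 f n)).obj F
  let res : ∀ {W' W : (PrinPart.nbhd f n).Opens} (_ : W' ≤ W), Γ(P, W) → Γ(P, W') :=
    fun hle z => P.presheaf.map (homOfLE hle).op z
  let Q : ∀ W, Γ(P, W) → Prop := fun W z => ∀ (U : X.Opens) (hU : PrinPart.pr1 f n ⁻¹ᵁ U ≤ W),
    a.app U (res hU z) = b.app U (res hU z)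
  suffices H : ∀ W z, Q W z by
    refine Scheme.Modules.hom_ext _ _ fun U => ?_
    ext z
    have := H _ z U le_rfl
    simp only [res] at this
    rwa [show (homOfLE (le_refl (PrinPart.pr1 f n ⁻¹ᵁ U))).op = 𝟙 _ from Subsingleton.elim _ _,
      P.presheaf.map_id] at this
  refine pullback_induction (PrinPart.pr2 f n) F Q ?_ ?_ ?_ ?_ ?_
  · intro W W' hle z hz U hU
    simp only [res]
    rw [OmegaSh.resM_resM]
    exact hz U (hU.trans hle)
  · intro W z hz U hU
    refine TopCat.Sheaf.eq_of_locally_eq' (⟨G.presheaf, G.isSheaf⟩ : TopCat.Sheaf AddCommGrpCat X)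
      (fun U' : {U' : X.Opens // U' ≤ U ∧ ∃ (W' : _) (hW : W' ≤ W),
        Q W' (res hW z) ∧ PrinPart.pr1 f n ⁻¹ᵁ U' ≤ W'} => U'.1) U (fun U' => homOfLE U'.2.1) ?_ _ _ ?_
    · intro x hx
      have hxW : PrinPart.toNbhd f n x ∈ W := hU (by
        change PrinPart.pr1 f n (PrinPart.toNbhd f n x) ∈ U
        rw [← Scheme.Hom.comp_apply, PrinPart.toNbhd_pr1]
        exact hx)
      obtain ⟨W', hW', hxW', hQ⟩ := hz _ hxW
      refine Opens.mem_iSup.2 ⟨⟨U ⊓ PrinPart.toNbhd f n ⁻¹ᵁ W', inf_le_left, W', hW', hQ, ?_⟩,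
        hx, hxW'⟩
      exact ((PrinPart.pr1 f n).preimage_mono inf_le_right).trans (preimage_toNbhd f n W').le
    · rintro ⟨U', hU', W', hW', hQ, hU'W⟩
      have h1 := hQ U' hU'W
      simp only [res] at h1
      rw [OmegaSh.resM_resM] at h1
      have hnat : ∀ c : PrinPart.PMod f n F ⟶ G, G.presheaf.map (homOfLE hU').op (c.app U (res hU z)) =
          c.app U' (res (hU'W.trans hW') z) := fun c => by
        refine (congr($(c.mapPresheaf.naturality (homOfLE hU').op) (res hU z))).symm.trans ?_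
        refine congrArg (c.app U') ?_
        show P.presheaf.map (homOfLE ((PrinPart.pr1 f n).preimage_mono hU')).op (res hU z) = _
        simp only [res]
        rw [OmegaSh.resM_resM]; rfl
      exact (hnat a).trans (h1.trans (hnat b).symm)
  · intro W U hU
    simp only [res, map_zero]
    exact (map_zero (a.app U).hom).trans (map_zero (b.app U).hom).symm
  · intro W z z' hz hz' U hU
    simp only [res, map_add]
    exact (map_add (a.app U).hom _ _).trans
      ((congrArg₂ (· + ·) (hz U hU) (hz' U hU)).trans (map_add (b.app U).hom _ _).symm)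
  · intro W U₀ hW c t U hU
    refine TopCat.Sheaf.eq_of_locally_eq' (⟨G.presheaf, G.isSheaf⟩ : TopCat.Sheaf AddCommGrpCat X)
      (fun U' : {U' : X.Opens // U' ≤ U ∧ SmallAffine f U'} => U'.1) U (fun U' => homOfLE U'.2.1)
      ?_ _ _ ?_
    · intro x hx
      obtain ⟨U', hU', hxU', hle⟩ := exists_smallAffine f hx
      exact Opens.mem_iSup.2 ⟨⟨U', hle, hU'⟩, hxU'⟩
    · rintro ⟨U', hU', hsm⟩
      let W' := PrinPart.pr1 f n ⁻¹ᵁ U'
      have hW' : W' ≤ W := ((PrinPart.pr1 f n).preimage_mono hU').trans hU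
      have hU₀ : U' ≤ U₀ := fun x hx => by
        have : PrinPart.toNbhd f n x ∈ PrinPart.pr2 f n ⁻¹ᵁ U₀ := hW (hW' (by
          change PrinPart.pr1 f n (PrinPart.toNbhd f n x) ∈ U'
          rw [← Scheme.Hom.comp_apply, PrinPart.toNbhd_pr1]
          exact hx))
        change PrinPart.pr2 f n (PrinPart.toNbhd f n x) ∈ U₀ at this
        rwa [← Scheme.Hom.comp_apply, PrinPart.toNbhd_pr2] at this
      let t' := F.presheaf.map (homOfLE hU₀).op t
      have hgen : res hW' (c • res hW (OmegaSh.pullSect (PrinPart.pr2 f n) F U₀ t)) =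
          ((PrinPart.nbhd f n).presheaf.map (homOfLE hW').op c) • dPs f n F U' t' := by
        simp only [res]
        rw [Scheme.Modules.map_smul, OmegaSh.resM_resM, dPs, PrinPart.dP_apply, OmegaSh.pullSect_map,
          OmegaSh.resM_resM]
        rfl
      have key : ∀ (e : Γ(PrinPart.nbhd f n, W')) (t : Γ(F, U')),
          a.app U' (e • dPs f n F U' t) = b.app U' (e • dPs f n F U' t) :=
        fun e t => app_smul_dP f n h hsm e t
      have hnat : ∀ d : PrinPart.PMod f n F ⟶ G, G.presheaf.map (homOfLE hU').op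
          (d.app U (res hU (c • res hW (OmegaSh.pullSect (PrinPart.pr2 f n) F U₀ t)))) =
          d.app U' (((PrinPart.nbhd f n).presheaf.map (homOfLE hW').op c) • dPs f n F U' t') :=
        fun d => by
        refine (congr($(d.mapPresheaf.naturality (homOfLE hU').op) _)).symm.trans ?_
        refine congrArg (d.app U') ?_
        rw [← hgen]
        show P.presheaf.map (homOfLE ((PrinPart.pr1 f n).preimage_mono hU')).op (res hU _) = _
        simp only [res]
        rw [OmegaSh.resM_resM]; rfl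
      exact (hnat a).trans ((key _ t').trans (hnat b).symm)

end PrinPartLib
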