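import Groth.Agent.PrinPartLib.Gen
import Groth.Agent.PP16Lib.Diff
import Groth.Agent.DiffOp16.Basic

/-!
# The kernel of `B ⊗ B → Γ(X^{(n)}, U)` and differential operators over small affines
-/

set_option autoImplicit false

universe u

open CategoryTheory CategoryTheory.Limits AlgebraicGeometry TopologicalSpace Opposite
open scoped TensorProduct

namespace PrinPartLib

variable {X S : Scheme.{u}} (f : X ⟶ S) (n : ℕ)

/-- The functions vanishing on the neighbourhood are the `(n+1)`-st power of those vanishing on the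
diagonal. -/
theorem nbhdι_app_eq_zero_iff {U : X.Opens} (hU : SmallAffine f U) (y : Γ(pullback f f, box f U)) :
    (PrinPart.nbhdι f n).app (box f U) y = 0 ↔
      y ∈ RingHom.ker ((pullback.diagonal f).app (box f U)).hom ^ (n + 1) := by
  obtain ⟨hUa, V, hV, hUV⟩ := hU
  let Δ := pullback.diagonal f
  let C := Δ.coborderRange
  let i := PrinPart.infNbhdι (PrinPart.diagCl f) n
  have hle : box f U ≤ C.ι.opensRange := by
    rw [Scheme.Opens.opensRange_ι]
    exact box_le_coborderRange f hUV hUa hV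
  let W : C.toScheme.affineOpens :=
    ⟨C.ι ⁻¹ᵁ box f U, (isAffineOpen_box f hUV hUa hV).preimage_of_isOpenImmersion C.ι hle⟩
  haveI : IsIso (C.ι.app (box f U)) := Scheme.Hom.isIso_app C.ι (box f U) hle
  let jb := C.ι.app (box f U)
  have hjb := ConcreteCategory.bijective_of_isIso jb
  have h1 : (PrinPart.nbhdι f n).app (box f U) y = i.app W.1 (jb y) :=
    congr($(Scheme.Hom.comp_app i C.ι (box f U)) y)
  have h2 : (RingHom.ker (Δ.app (box f U)).hom).map jb.hom =
      RingHom.ker ((PrinPart.diagCl f).app W.1).hom := by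
    have hcomap : RingHom.ker (Δ.app (box f U)).hom =
        (RingHom.ker ((PrinPart.diagCl f).app W.1).hom).comap jb.hom := by
      ext r
      rw [RingHom.mem_ker, Ideal.mem_comap, RingHom.mem_ker,
        Scheme.Hom.congr_app (Δ.liftCoborder_ι).symm (box f U), Scheme.Hom.comp_app]
      refine ⟨fun h => ?_, fun h => ?_⟩
      · exact (injective_iff_map_eq_zero _).1 (ConcreteCategory.bijective_of_isIso
          (X.presheaf.map (eqToHom _).op)).1 _ h
      · exact (congrArg _ h).trans (map_zero (X.presheaf.map (eqToHom _).op).hom)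
    rw [hcomap, Ideal.map_comap_of_surjective _ hjb.2]
  rw [h1]
  show jb y ∈ RingHom.ker (((PrinPart.diagCl f).ker ^ (n + 1)).subschemeι.app W.1).hom ↔ _
  rw [Scheme.IdealSheafData.ker_subschemeι_app _ W, Scheme.IdealSheafData.ideal_pow, Pi.pow_apply,
    Scheme.Hom.ker_apply, ← h2, ← Ideal.map_pow]
  exact Ideal.mem_map_iff_of_surjective _ hjb.2 |>.trans
    ⟨fun ⟨z, hz, hzy⟩ => hjb.1 hzy ▸ hz, fun h => ⟨y, h, rfl⟩⟩

/-- A retraction followed by the diagonal, on functions. -/
theorem diag_app {U : X.Opens} (p : pullback f f ⟶ X) (hp : pullback.diagonal f ≫ p = 𝟙 X)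
    (hb : box f U ≤ p ⁻¹ᵁ U) (a : Γ(X, U)) (hle : pullback.diagonal f ⁻¹ᵁ box f U ≤ U) :
    (pullback.diagonal f).app (box f U) (p.appLE U (box f U) hb a) =
      X.presheaf.map (homOfLE hle).op a := by
  have h1 : p.appLE U (box f U) hb ≫ (pullback.diagonal f).app (box f U) =
      (𝟙 X : X ⟶ X).appLE U (pullback.diagonal f ⁻¹ᵁ box f U) hle := by
    rw [Scheme.Hom.app_eq_appLE, Scheme.Hom.appLE_comp_appLE]
    simp only [hp]
  exact congr($h1 a)

/-- The tensor product is the ring of functions on the box. -/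
theorem bijective_box_tensor {U : X.Opens} {V : S.Opens} (hUV : U ≤ f ⁻¹ᵁ V) (hU : IsAffineOpen U)
    (hV : IsAffineOpen V) :
    letI : Algebra Γ(S, V) Γ(X, U) := (f.appLE V U hUV).hom.toAlgebra
    ∀ θ : Γ(X, U) ⊗[Γ(S, V)] Γ(X, U) →+* Γ(pullback f f, box f U),
      (∀ x y, θ (x ⊗ₜ y) = (pullback.fst f f).appLE U (box f U) inf_le_left x *
        (pullback.snd f f).appLE U (box f U) inf_le_right y) → Function.Bijective θ := by
  letI : Algebra Γ(S, V) Γ(X, U) := (f.appLE V U hUV).hom.toAlgebra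
  intro θ hθ
  haveI : IsAffine U.toScheme := hU
  haveI : IsAffine V.toScheme := hV
  let h := f.resLE V U hUV
  let q := boxMap f hUV
  have htop : ⊤ ≤ q ⁻¹ᵁ box f U := fun y _ => (range_boxMap f hUV).le ⟨y, rfl⟩
  let ψ := q.appLE (box f U) ⊤ htop
  have hψ : Function.Bijective ψ := by
    have hiso : IsIso (q.app (box f U)) := Scheme.Hom.isIso_app q _ (range_boxMap f hUV).ge
    have hres : IsIso ((pullback h h).presheaf.map (homOfLE htop).op) := by
      haveI : IsIso (homOfLE htop) := ⟨homOfLE le_top, Subsingleton.elim _ _, Subsingleton.elim _ _⟩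
      infer_instance
    have : IsIso ψ := by
      show IsIso (q.app (box f U) ≫ (pullback h h).presheaf.map (homOfLE htop).op)
      infer_instance
    exact ConcreteCategory.bijective_of_isIso ψ
  have hP := isPushout_appTop_of_isPullback (IsPullback.of_hasPullback h h)
  let iU := U.ι.appLE U ⊤ (U.ι_preimage_self).ge
  let iV := V.ι.appLE V ⊤ (V.ι_preimage_self).ge
  have hiU : IsIso iU := by infer_instance
  let B := CommRingCat.of (Γ(X, U) ⊗[Γ(S, V)] Γ(X, U))
  let l : Γ(U.toScheme, ⊤) ⟶ B :=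
    inv iU ≫ CommRingCat.ofHom Algebra.TensorProduct.includeLeftRingHom
  let r : Γ(U.toScheme, ⊤) ⟶ B :=
    inv iU ≫ CommRingCat.ofHom (Algebra.TensorProduct.includeRight (R := Γ(S, V))).toRingHom
  haveI hiV : IsIso iV := by infer_instance
  have hsq : iV ≫ h.appTop = f.appLE V U hUV ≫ iU := by
    show V.ι.appLE V ⊤ _ ≫ h.app ⊤ = _
    rw [Scheme.Hom.app_eq_appLE, Scheme.Hom.appLE_comp_appLE, Scheme.Hom.appLE_comp_appLE]
    simp only [h, Scheme.Hom.resLE_comp_ι]
    rfl
  have w : h.appTop ≫ l = h.appTop ≫ r := by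
    rw [← cancel_epi iV, reassoc_of% hsq, reassoc_of% hsq]
    simp only [l, r, IsIso.hom_inv_id_assoc]
    ext x
    show (algebraMap Γ(S, V) Γ(X, U) x) ⊗ₜ[Γ(S, V)] (1 : Γ(X, U)) = (1 : Γ(X, U)) ⊗ₜ[Γ(S, V)] algebraMap Γ(S, V) Γ(X, U) x
    rw [Algebra.algebraMap_eq_smul_one, TensorProduct.smul_tmul]
  let inverse : Γ(pullback h h, ⊤) ⟶ B := hP.desc l r w
  have key : ∀ x : B, inverse (ψ (θ x)) = x := by
    have e : ∀ (p : pullback f f ⟶ X) (p' : pullback h h ⟶ U.toScheme) (e : box f U ≤ p ⁻¹ᵁ U),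
        q ≫ p = p' ≫ U.ι → p.appLE U (box f U) e ≫ ψ = iU ≫ p'.appTop := by
      intro p p' e hsq
      rw [Scheme.Hom.appLE_comp_appLE]
      show _ = U.ι.appLE U ⊤ _ ≫ p'.app ⊤
      rw [Scheme.Hom.app_eq_appLE, Scheme.Hom.appLE_comp_appLE]
      simp only [hsq]
      rfl
    intro x
    induction x using TensorProduct.induction_on with
    | zero => simp only [map_zero]
    | add p p' hp hp' =>
      exact (congrArg inverse ((congrArg ψ (map_add θ p p')).trans (map_add ψ.hom _ _))).trans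
        ((map_add inverse.hom _ _).trans (congrArg₂ (· + ·) hp hp'))
    | tmul p p' =>
      refine (congrArg inverse ((congrArg ψ (hθ p p')).trans (map_mul ψ.hom _ _))).trans
        ((map_mul inverse.hom _ _).trans ?_)
      have h1 := congr($(e _ _ inf_le_left (boxMap_fst f hUV)) p)
      have h2 := congr($(e _ _ inf_le_right (boxMap_snd f hUV)) p')
      have h3 : iU ≫ (pullback.fst h h).appTop ≫ inverse =
          CommRingCat.ofHom Algebra.TensorProduct.includeLeftRingHom := by
        rw [hP.inl_desc, IsIso.hom_inv_id_assoc]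
      have h4 : iU ≫ (pullback.snd h h).appTop ≫ inverse =
          CommRingCat.ofHom (Algebra.TensorProduct.includeRight (R := Γ(S, V))).toRingHom := by
        rw [hP.inr_desc, IsIso.hom_inv_id_assoc]
      refine (congrArg₂ (· * ·) ((congrArg inverse h1).trans congr($h3 p))
        ((congrArg inverse h2).trans congr($h4 p'))).trans ?_
      show (p ⊗ₜ[Γ(S, V)] (1 : Γ(X, U))) * ((1 : Γ(X, U)) ⊗ₜ[Γ(S, V)] p') = _
      rw [Algebra.TensorProduct.tmul_mul_tmul, mul_one, one_mul]
  refine ⟨Function.LeftInverse.injective (g := fun y => inverse (ψ y)) key, fun y => ?_⟩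
  have hy : y ∈ θ.range := by
    have := closure_box f hUV hU hV
    refine (this.symm.le.trans (Subring.closure_le.2 ?_)) (Subring.mem_top y)
    rintro _ (⟨a, rfl⟩ | ⟨a, rfl⟩)
    · exact ⟨a ⊗ₜ 1, by rw [hθ, map_one, mul_one]⟩
    · exact ⟨1 ⊗ₜ a, by rw [hθ, map_one, one_mul]⟩
  exact hy

/-- A product of `n + 1` functions vanishing on the diagonal vanishes on the neighbourhood. -/
theorem prod_delta_eq_zero {U : X.Opens} (hU : SmallAffine f U) (a : Fin (n + 1) → Γ(X, U)) :
    ∏ i, ((PrinPart.pr2 f n).appLE U (PrinPart.pr1 f n ⁻¹ᵁ U) (PrinPart.preimage_pr1 f n U).le (a i) -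
      (PrinPart.pr1 f n).app U (a i)) = 0 := by
  let e : Fin (n + 1) → Γ(pullback f f, box f U) := fun i =>
    (pullback.snd f f).appLE U (box f U) inf_le_right (a i) -
      (pullback.fst f f).appLE U (box f U) inf_le_left (a i)
  let ρ := (PrinPart.nbhdι f n).appLE (box f U) (PrinPart.pr1 f n ⁻¹ᵁ U) (preimage_box f n U).ge
  have h : (PrinPart.nbhdι f n).app (box f U) (∏ i, e i) = 0 := by
    rw [nbhdι_app_eq_zero_iff f n hU]
    have : ∀ i, e i ∈ RingHom.ker ((pullback.diagonal f).app (box f U)).hom := fun i => by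
      rw [RingHom.mem_ker, map_sub, sub_eq_zero]
      have hs : ∀ (p : pullback f f ⟶ X) (hp : pullback.diagonal f ≫ p = 𝟙 X) (hb : box f U ≤ p ⁻¹ᵁ U),
          (pullback.diagonal f).app (box f U) (p.appLE U (box f U) hb (a i)) =
            X.presheaf.map (homOfLE (show pullback.diagonal f ⁻¹ᵁ box f U ≤ U from fun z hz => by
              have := hb hz
              change (pullback.diagonal f ≫ p) z ∈ U at this
              rwa [hp] at this)).op (a i) := fun p hp hb => by
        have h1 : p.appLE U (box f U) hb ≫ (pullback.diagonal f).app (box f U) =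
            (𝟙 X : X ⟶ X).appLE U (pullback.diagonal f ⁻¹ᵁ box f U) (fun z hz => by
              have := hb hz
              change (pullback.diagonal f ≫ p) z ∈ U at this
              rwa [hp] at this) := by
          rw [Scheme.Hom.app_eq_appLE, Scheme.Hom.appLE_comp_appLE]
          simp only [hp]
        exact congr($h1 (a i))
      exact (hs _ (pullback.diagonal_snd f) inf_le_right).trans
        (hs _ (pullback.diagonal_fst f) inf_le_left).symm
    have h2 := Ideal.prod_mem_prod (s := (Finset.univ : Finset (Fin (n + 1)))) (fun i _ => this i)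
    simpa using h2
  have h3 : ρ (∏ i, e i) = 0 := by
    show (PrinPart.nbhd f n).presheaf.map _ ((PrinPart.nbhdι f n).app (box f U) (∏ i, e i)) = 0
    rw [h, map_zero]
  rw [map_prod] at h3
  rw [← h3]
  refine Finset.prod_congr rfl fun i _ => ?_
  have e1 : (pullback.snd f f).appLE U (box f U) inf_le_right ≫ ρ =
      (PrinPart.pr2 f n).appLE U (PrinPart.pr1 f n ⁻¹ᵁ U) (PrinPart.preimage_pr1 f n U).le := by
    rw [Scheme.Hom.appLE_comp_appLE]; rfl
  have e2 : (pullback.fst f f).appLE U (box f U) inf_le_left ≫ ρ = (PrinPart.pr1 f n).app U := by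
    rw [Scheme.Hom.appLE_comp_appLE, Scheme.Hom.app_eq_appLE]; rfl
  show _ = ρ _
  rw [map_sub, ← congr($e1 (a i)), ← congr($e2 (a i))]
  rfl

variable {F G : X.Modules} (D : F.presheaf ⟶ G.presheaf)

/-- `D` commutes with functions from the base. -/
def SLinear : Prop :=
  ∀ (V : S.Opens) (s : Γ(S, V)) (U : X.Opens) (hU : U ≤ f ⁻¹ᵁ V) (t : Γ(F, U)),
    D.app (op U) (X.presheaf.map (homOfLE hU).op (f.app V s) • t) =
      X.presheaf.map (homOfLE hU).op (f.app V s) • D.app (op U) t

/-- The alternating sums of `D` vanish. -/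
def AltVanish : Prop :=
  ∀ (U : X.Opens) (a : Fin (n + 1) → Γ(X, U)) (t : Γ(F, U)),
    (∑ H : Finset (Fin (n + 1)),
      ((-1 : ℤ) ^ H.card) • ((∏ i ∈ H, a i) • D.app (op U) ((∏ i ∈ Hᶜ, a i) • t))) = 0

variable {D}

/-- The linearisation of an operator kills the relations between principal parts. -/
theorem pair_eq_zero (hlin : SLinear f D) (hD : AltVanish n D) {U : X.Opens} (hU : SmallAffine f U)
    {ι : Type*} (s : Finset ι) (a b : ι → Γ(X, U))
    (h : ∑ k ∈ s, (PrinPart.pr1 f n).app U (a k) *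
      (PrinPart.pr2 f n).appLE U (PrinPart.pr1 f n ⁻¹ᵁ U) (PrinPart.preimage_pr1 f n U).le (b k) = 0)
    (t : Γ(F, U)) : ∑ k ∈ s, a k • D.app (op U) (b k • t) = 0 := by
  have hU' := hU
  obtain ⟨hUa, V, hV, hUV⟩ := hU'
  let φ := (f.appLE V U hUV).hom
  letI : Algebra Γ(S, V) Γ(X, U) := φ.toAlgebra
  letI : Module Γ(S, V) Γ(F, U) := Module.compHom _ φ
  letI : Module Γ(S, V) Γ(G, U) := Module.compHom _ φ
  haveI : IsScalarTower Γ(S, V) Γ(X, U) Γ(F, U) := IsScalarTower.of_algebraMap_smul fun _ _ => rfl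
  haveI : IsScalarTower Γ(S, V) Γ(X, U) Γ(G, U) := IsScalarTower.of_algebraMap_smul fun _ _ => rfl
  let D' : Γ(F, U) →ₗ[Γ(S, V)] Γ(G, U) :=
    { toFun := fun m => (D.app (op U)).hom m
      map_add' := fun m m' => map_add (D.app (op U)).hom m m'
      map_smul' := fun r m => hlin V r U hUV m }
  have hD' : Diff16.IsDiffOpLE Γ(S, V) Γ(X, U) Γ(F, U) Γ(G, U) n D' := by
    refine DiffOp16Lib.isDiffOpLE_of_altSum_eq_zero n D' fun c m => ?_
    rw [DiffOp16Lib.altSum_univ]
    exact hD U c m
  let z : Γ(X, U) ⊗[Γ(S, V)] Γ(X, U) := ∑ k ∈ s, a k ⊗ₜ b k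
  suffices hz : z ∈ KaehlerDifferential.ideal Γ(S, V) Γ(X, U) ^ (n + 1) by
    have := (PP16Lib.isDiffOpLE_iff_evalPair n D').1 hD' t z hz
    rw [map_sum] at this
    exact this
  -- the tensor product is the ring of functions on the box
  let p₁ := (pullback.fst f f).appLE U (box f U) inf_le_left
  let p₂ := (pullback.snd f f).appLE U (box f U) inf_le_right
  have hw : f.appLE V U hUV ≫ p₁ = f.appLE V U hUV ≫ p₂ := by
    rw [Scheme.Hom.appLE_comp_appLE, Scheme.Hom.appLE_comp_appLE]
    simp only [pullback.condition]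
  let α : Γ(X, U) →ₐ[Γ(S, V)] Γ(X, U) ⊗[Γ(S, V)] Γ(X, U) := Algebra.TensorProduct.includeLeft
  letI : Algebra Γ(S, V) Γ(pullback f f, box f U) := (p₁.hom.comp φ).toAlgebra
  let a₁ : Γ(X, U) →ₐ[Γ(S, V)] Γ(pullback f f, box f U) := ⟨p₁.hom, fun r => rfl⟩
  let a₂ : Γ(X, U) →ₐ[Γ(S, V)] Γ(pullback f f, box f U) := ⟨p₂.hom, fun r => (congr($hw r)).symm⟩
  let θ := Algebra.TensorProduct.lift a₁ a₂ fun _ _ => Commute.all _ _
  have hθt : ∀ x y, θ (x ⊗ₜ[Γ(S, V)] y) = p₁ x * p₂ y := fun x y =>
    Algebra.TensorProduct.lift_tmul _ _ _ _ _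
  have hθ : Function.Bijective θ := bijective_box_tensor f hUV hUa hV θ.toRingHom hθt
  have hker : (RingHom.ker ((pullback.diagonal f).app (box f U)).hom).comap θ.toRingHom =
      KaehlerDifferential.ideal Γ(S, V) Γ(X, U) := by
    ext x
    rw [Ideal.mem_comap, RingHom.mem_ker]
    have hle : pullback.diagonal f ⁻¹ᵁ box f U ≤ U := fun z hz => by
      have := hz.1
      change (pullback.diagonal f ≫ pullback.fst f f) z ∈ U at this
      rwa [pullback.diagonal_fst] at this
    have hge : U ≤ pullback.diagonal f ⁻¹ᵁ box f U := fun z hz => by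
      refine ⟨?_, ?_⟩
      · change (pullback.diagonal f ≫ pullback.fst f f) z ∈ U
        rwa [pullback.diagonal_fst]
      · change (pullback.diagonal f ≫ pullback.snd f f) z ∈ U
        rwa [pullback.diagonal_snd]
    have hd : ∀ y, (pullback.diagonal f).app (box f U) (θ y) = X.presheaf.map (homOfLE hle).op
        (Algebra.TensorProduct.lmul' Γ(S, V) y) := by
      intro y
      induction y with
      | zero => simp only [map_zero]
      | add p q hp hq => simp only [map_add, hp, hq]
      | tmul p q =>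
        rw [hθt, map_mul, Algebra.TensorProduct.lmul'_apply_tmul, map_mul]
        congr 1
        · exact diag_app f (pullback.fst f f) (pullback.diagonal_fst f) inf_le_left p hle
        · exact diag_app f (pullback.snd f f) (pullback.diagonal_snd f) inf_le_right q hle
    haveI : IsIso (homOfLE hle) := ⟨homOfLE hge, Subsingleton.elim _ _, Subsingleton.elim _ _⟩
    exact (Eq.congr_left (hd x)).trans (map_eq_zero_iff _
      (ConcreteCategory.bijective_of_isIso (X.presheaf.map (homOfLE hle).op)).1)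
  have hzero : (PrinPart.nbhdι f n).app (box f U) (θ z) = 0 := by
    haveI : IsIso (homOfLE (preimage_box f n U).ge) :=
      ⟨homOfLE (preimage_box f n U).le, Subsingleton.elim _ _, Subsingleton.elim _ _⟩
    refine (injective_iff_map_eq_zero _).1 (ConcreteCategory.bijective_of_isIso
      ((PrinPart.nbhd f n).presheaf.map (homOfLE (preimage_box f n U).ge).op)).1 _ ?_
    show (PrinPart.nbhdι f n).appLE (box f U) (PrinPart.pr1 f n ⁻¹ᵁ U) (preimage_box f n U).ge (θ z) = 0
    rw [← h, map_sum, map_sum]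
    refine Finset.sum_congr rfl fun k _ => ?_
    rw [hθt, map_mul]
    congr 1
    · exact congr($(show p₁ ≫ (PrinPart.nbhdι f n).appLE (box f U) (PrinPart.pr1 f n ⁻¹ᵁ U)
        (preimage_box f n U).ge = (PrinPart.pr1 f n).app U by
          rw [Scheme.Hom.appLE_comp_appLE, Scheme.Hom.app_eq_appLE]; rfl) (a k))
    · exact congr($(show p₂ ≫ (PrinPart.nbhdι f n).appLE (box f U) (PrinPart.pr1 f n ⁻¹ᵁ U)
        (preimage_box f n U).ge = (PrinPart.pr2 f n).appLE U (PrinPart.pr1 f n ⁻¹ᵁ U)
          (PrinPart.preimage_pr1 f n U).le by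
          rw [Scheme.Hom.appLE_comp_appLE]; rfl) (b k))
  rw [nbhdι_app_eq_zero_iff f n hU] at hzero
  rw [← hker]
  rw [show (RingHom.ker ((pullback.diagonal f).app (box f U)).hom) =
    ((RingHom.ker ((pullback.diagonal f).app (box f U)).hom).comap θ.toRingHom).map θ.toRingHom from
    (Ideal.map_comap_of_surjective _ hθ.2 _).symm, ← Ideal.map_pow] at hzero
  obtain ⟨w, hw', hwz⟩ := (Ideal.mem_map_iff_of_surjective _ hθ.2).1 hzero
  rwa [← hθ.1 hwz]

end PrinPartLib
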