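import Groth.Agent.PrinPartLib.Proj
import Groth.Agent.FComplLib.Basic
import Groth.Agent.DegPullLib.Rank
import Groth.Agent.CurvLib.EulerTensor
import Groth.Agent.CohCmpLib.UnitFibre
import Mathlib.AlgebraicGeometry.Morphisms.Flat

/-!
# The symmetry of the neighbourhoods of the diagonal
-/

set_option autoImplicit false

universe u

open CategoryTheory CategoryTheory.Limits AlgebraicGeometry TopologicalSpace Opposite

namespace PrinPartLib

variable {X S : Scheme.{u}} (f : X ⟶ S) (n : ℕ)

/-- A morphism over a base change of closed immersions maps the neighbourhoods. -/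
theorem exists_nbhdMap {Y A Y' A' : Scheme.{u}} (i : Y ⟶ A) [IsClosedImmersion i] (v : A' ⟶ A)
    (u : Y' ⟶ Y) (i' : Y' ⟶ A') [IsClosedImmersion i'] (h : IsPullback u i' i v) :
    ∃ w : PrinPart.infNbhd i' n ⟶ PrinPart.infNbhd i n,
      IsPullback w (PrinPart.infNbhdι i' n) (PrinPart.infNbhdι i n) v := by
  let K := i.ker ^ (n + 1)
  have hk : i'.ker = i.ker.comap v := by
    rw [← Scheme.IdealSheafData.ker_fst_of_isClosedImmersion, ← h.flip.isoPullback_hom_fst,
      Scheme.Hom.ker_comp_of_isIso]
  have hK : K.comap v = i'.ker ^ (n + 1) := by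
    rw [FComplLib.comap_pow_succ, hk]
  let e := (eqToIso (congrArg Scheme.IdealSheafData.subscheme hK.symm) :
    PrinPart.infNbhd i' n ≅ (K.comap v).subscheme)
  haveI : IsClosedImmersion (PrinPart.infNbhdι i' n) := by rw [PrinPart.infNbhdι]; infer_instance
  haveI : IsClosedImmersion (PrinPart.infNbhdι i n) := by rw [PrinPart.infNbhdι]; infer_instance
  refine ⟨e.hom ≫ (K.comapIso v).hom ≫ pullback.snd _ _, (isPullback_of_isClosedImmersion _ _ _ v ?_ ?_).flip⟩
  · have he : ∀ {I J : A'.IdealSheafData} (q : I = J),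
        (eqToIso (congrArg Scheme.IdealSheafData.subscheme q)).hom ≫ J.subschemeι = I.subschemeι := by
      intro I J q; subst q; simp
    show (i'.ker ^ (n + 1)).subschemeι ≫ v = (e.hom ≫ (K.comapIso v).hom ≫ pullback.snd _ _) ≫ K.subschemeι
    simp only [Category.assoc, ← pullback.condition]
    rw [Scheme.IdealSheafData.comapIso_hom_fst_assoc, ← Category.assoc, he hK.symm]
  · rw [PrinPart.infNbhdι, PrinPart.infNbhdι, Scheme.IdealSheafData.ker_subschemeι,
      Scheme.IdealSheafData.ker_subschemeι]
    exact hK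

/-- Exchanging the factors induces an automorphism exchanging the projections. -/
theorem exists_swap :
    ∃ σ : PrinPart.nbhd f n ⟶ PrinPart.nbhd f n, IsIso σ ∧ σ ≫ PrinPart.pr1 f n = PrinPart.pr2 f n := by
  let s : pullback f f ⟶ pullback f f := pullback.lift (pullback.snd f f) (pullback.fst f f) pullback.condition.symm
  have hs : s ≫ s = 𝟙 _ := by
    apply pullback.hom_ext <;>
      simp only [s, Category.assoc, pullback.lift_fst, pullback.lift_snd, pullback.diagonal_fst,
        pullback.diagonal_snd, Category.id_comp]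
  let e : pullback f f ≅ pullback f f := ⟨s, s, hs, hs⟩
  have hΔ : pullback.diagonal f ≫ s = pullback.diagonal f := by
    apply pullback.hom_ext <;>
      simp only [s, Category.assoc, pullback.lift_fst, pullback.lift_snd, pullback.diagonal_fst,
        pullback.diagonal_snd, Category.id_comp]
  let C := (pullback.diagonal f).coborderRange
  let h := Scheme.homeoOfIso e
  have hR : h ⁻¹' Set.range (pullback.diagonal f) = Set.range (pullback.diagonal f) := by
    ext z
    constructor
    · rintro ⟨x, hx⟩
      refine ⟨x, ?_⟩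
      have h1 : s (s z) = z := by rw [← Scheme.Hom.comp_apply, hs]; rfl
      rw [← h1, show s z = pullback.diagonal f x from hx.symm, ← Scheme.Hom.comp_apply, hΔ]
    · rintro ⟨x, rfl⟩
      exact ⟨x, by show _ = (pullback.diagonal f ≫ s) x; rw [hΔ]⟩
  have hC : C ≤ s ⁻¹ᵁ C := by
    intro z hz
    have : h ⁻¹' coborder (Set.range (pullback.diagonal f)) = coborder (Set.range (pullback.diagonal f)) := by
      rw [coborder, Set.preimage_compl, Set.preimage_sdiff, h.preimage_closure, hR]
    exact this.ge hz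
  let v : C.toScheme ⟶ C.toScheme := s.resLE C C hC
  have hv : v ≫ v = 𝟙 _ := by
    rw [← cancel_mono C.ι]
    simp [v, Scheme.Hom.resLE_comp_ι_assoc, hs]
  haveI : IsIso v := ⟨v, hv, hv⟩
  let d := PrinPart.diagCl f
  have hd : d ≫ v = d := by
    rw [← cancel_mono C.ι, Category.assoc, Scheme.Hom.resLE_comp_ι, ← Category.assoc]
    simp only [d, C, PrinPart.diagCl, Scheme.Hom.liftCoborder_ι, hΔ]
  have hsq : IsPullback (𝟙 X) d d v := IsPullback.of_horiz_isIso ⟨by rw [Category.id_comp, hd]⟩
  obtain ⟨w, hw⟩ := exists_nbhdMap n d v (𝟙 X) d hsq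
  refine ⟨w, hw.isIso_fst_of_isIso, ?_⟩
  show w ≫ (PrinPart.infNbhdι d n ≫ C.ι) ≫ pullback.fst f f =
    (PrinPart.infNbhdι d n ≫ C.ι) ≫ pullback.snd f f
  simp only [← Category.assoc, hw.w]
  simp only [Category.assoc, v, Scheme.Hom.resLE_comp_ι_assoc]
  simp only [s, pullback.lift_fst]

/-- `P^n` flat for the left structure means the first projection is flat. -/
theorem flat_pr1 (hP : FlatMod.IsFlat (PrinPart.P f n)) : Flat (PrinPart.pr1 f n) := by
  rw [Flat.iff_flat_stalkMap]
  intro y
  let p := PrinPart.pr1 f n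
  have hinj : ∀ z, p z = p y → z = y := by
    intro z hz
    obtain ⟨a, rfl⟩ := PrinPart.toInfNbhd_surjective (PrinPart.diagCl f) n z
    obtain ⟨b, rfl⟩ := PrinPart.toInfNbhd_surjective (PrinPart.diagCl f) n y
    rw [← Scheme.Hom.comp_apply, ← Scheme.Hom.comp_apply, PrinPart.toNbhd_pr1] at hz
    exact congrArg _ hz
  haveI := isAffineHom_pr1 f n
  have hclosed : IsClosedMap p.base := by
    intro Z hZ
    have : p '' Z = PrinPart.toNbhd f n ⁻¹' Z := by
      ext x
      constructor
      · rintro ⟨z, hz, rfl⟩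
        obtain ⟨a, rfl⟩ := PrinPart.toInfNbhd_surjective (PrinPart.diagCl f) n z
        show PrinPart.toNbhd f n (p (PrinPart.toNbhd f n a)) ∈ Z
        rw [← Scheme.Hom.comp_apply (PrinPart.toNbhd f n) p, PrinPart.toNbhd_pr1]
        exact hz
      · intro hx
        exact ⟨_, hx, by rw [← Scheme.Hom.comp_apply, PrinPart.toNbhd_pr1]; rfl⟩
    rw [this]
    exact hZ.preimage (PrinPart.toNbhd f n).continuous
  let G := (Scheme.Modules.pullback (PrinPart.pr2 f n)).obj (Coh.structureModule X)
  let h := (KFlatLib.pullUnitIso (PrinPart.pr2 f n))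
  letI : Algebra (X.presheaf.stalk (p y)) ((PrinPart.nbhd f n).presheaf.stalk y) := (p.stalkMap y).hom.toAlgebra
  letI : Module (X.presheaf.stalk (p y)) (G.presheaf.stalk y) := Module.compHom _ (p.stalkMap y).hom
  haveI : IsScalarTower (X.presheaf.stalk (p y)) ((PrinPart.nbhd f n).presheaf.stalk y) (G.presheaf.stalk y) :=
    IsScalarTower.of_compHom _ _ _
  let σ := (TopCat.Presheaf.stalkPushforward AddCommGrpCat p.base G.presheaf y).hom
  let σ' : ((Coh.push p).obj G).presheaf.stalk (p y) →ₗ[X.presheaf.stalk (p y)] G.presheaf.stalk y :=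
    { toFun := fun a => σ a
      map_add' := fun a b => map_add σ a b
      map_smul' := fun c a => DegPullLib.stalkPushforward_smul p G y c a }
  let e₁ : ((Coh.push p).obj G).presheaf.stalk (p y) ≃ₗ[X.presheaf.stalk (p y)] G.presheaf.stalk y :=
    LinearEquiv.ofBijective σ' (DegPullLib.bijective_stalkPushforward p hclosed G y hinj)
  let g := ((DerSch.stalkFunctor (PrinPart.nbhd f n) y).mapIso h).toLinearEquiv
  let u₀ := g.trans (CurvLib.stalkStructureEquiv y)
  let e₂ : G.presheaf.stalk y ≃ₗ[X.presheaf.stalk (p y)] (PrinPart.nbhd f n).presheaf.stalk y :=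
    { toFun := fun a => u₀ a
      invFun := fun a => u₀.symm a
      left_inv := fun a => u₀.symm_apply_apply a
      right_inv := fun a => u₀.apply_symm_apply a
      map_add' := fun a b => map_add u₀ a b
      map_smul' := fun c a => u₀.map_smul (p.stalkMap y c) a }
  haveI h1 : Module.Flat (X.presheaf.stalk (p y)) (((Coh.push p).obj G).presheaf.stalk (p y)) := hP (p y)
  haveI h2 : Module.Flat (X.presheaf.stalk (p y)) (G.presheaf.stalk y) := Module.Flat.of_linearEquiv e₁.symm
  exact Module.Flat.of_linearEquiv e₂.symm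

end PrinPartLib
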